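import Cfsg.Agent.Lib.KnownB.Steinberg.Values
import Mathlib.GroupTheory.Sylow
import Mathlib.Analysis.Complex.Basic

/-!
The alternating sum of fixed-coset counts: restriction to `B`, degree, orders of parabolic
subgroups and the Sylow subgroup `U`.
-/

set_option autoImplicit false

namespace CfsgLib.KnownB.Steinberg

open CfsgLib.Chevalley CfsgLib.Chevalley.Tbl

/-- The number of cosets of `P_K` inside `P_J` fixed by `g`. -/
noncomputable def fixJ (T : Tbl) (F : Type*) [Field F] (J K : Finset ℕ)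
    (g : ↥(T.datum.group F)) : ℕ :=
  Nat.card {q : ↥(T.datum.group F) ⧸ PG T F K // (∃ h ∈ PG T F J, q = ↑h) ∧ g • q = q}

/-- The alternating sum of the fixed-point counts on the cosets inside `P_J`. -/
noncomputable def StJ (T : Tbl) (F : Type*) [Field F] (J : Finset ℕ)
    (g : ↥(T.datum.group F)) : ℤ :=
  ∑ K ∈ J.powerset, (-1 : ℤ) ^ K.card * (fixJ T F J K g : ℤ)

variable {T : Tbl} {F : Type*} [Field F] (hT : T.Valid)
include hT

omit hT in
/-- A union of cosets: the order of the bigger group. -/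
theorem card_cosets_mul [Finite F] {H K : Subgroup ↥(T.datum.group F)} (h : K ≤ H) :
    Nat.card {q : ↥(T.datum.group F) ⧸ K // ∃ x ∈ H, q = ↑x} * Nat.card K = Nat.card H := by
  rw [← Nat.card_congr (Subgroup.subgroupOfEquivOfLe h).toEquiv,
    Subgroup.card_eq_card_quotient_mul_card_subgroup (K.subgroupOf H)]
  congr 1
  let φ : ↥H ⧸ K.subgroupOf H → {q : ↥(T.datum.group F) ⧸ K // ∃ x ∈ H, q = ↑x} :=
    Quotient.lift (fun a => ⟨↑(a : ↥(T.datum.group F)), a, a.2, rfl⟩) (fun a c hac => Subtype.ext (by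
      have h1 := Subgroup.mem_subgroupOf.mp (QuotientGroup.leftRel_apply.mp hac)
      exact QuotientGroup.eq.mpr h1))
  refine (Nat.card_eq_of_bijective φ ⟨fun p q hpq => ?_, fun ⟨q, x, hx, hq⟩ => ?_⟩).symm
  · obtain ⟨a, rfl⟩ := QuotientGroup.mk_surjective p
    obtain ⟨c, rfl⟩ := QuotientGroup.mk_surjective q
    have h1 := QuotientGroup.eq.mp (congrArg Subtype.val hpq)
    exact QuotientGroup.eq.mpr (Subgroup.mem_subgroupOf.mpr h1)
  · exact ⟨↑(⟨x, hx⟩ : ↥H), Subtype.ext hq.symm⟩

theorem parabolicIn_empty : PG T F ∅ = BG T F := by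
  refine le_antisymm (fun g hg => ?_) (borel_le_parabolic ∅)
  simp only [Cfsg.Lie.ChevalleyDatum.parabolicIn, Subgroup.mem_subgroupOf] at hg ⊢
  refine (sup_le le_rfl ((Subgroup.closure_le _).mpr ?_) : T.datum.parabolicSubgroup F _ ≤ _) hg
  rintro x ⟨j, hj, -⟩
  simp at hj

variable (hC : T.chkComm = true)
include hC

theorem parabolicIn_range : PG T F (Finset.range T.rank) = ⊤ := by
  rw [eq_top_iff]
  rintro g -
  obtain ⟨b, hb, n, hn, w, hw, hm, u, hu, e⟩ := exists_canonical hT hC g.2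
  simp only [Cfsg.Lie.ChevalleyDatum.parabolicIn, Subgroup.mem_subgroupOf, e]
  refine mul_mem (mul_mem (Subgroup.mem_sup_left hb) ?_) (Subgroup.mem_sup_left ?_)
  · exact mem_parabolic_of_mono hT hn hm
      (by rw [wJ_top hT fun i hi => Finset.mem_range.mpr hi]; exact hw)
  · exact (rootGen_le fun r hr ⟨_, hp, _⟩ t => pos_le_borel hT hr hp t :
      T.rootGen F (T.negSet w) ≤ T.datum.borelSubgroup F) hu

theorem StJ_borel [Finite F] {J : Finset ℕ} (hJ : J ⊆ Finset.range T.rank)
    {b : ↥(T.datum.group F)} (hb : b ∈ BG T F) :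
    StJ T F J b = (Fcell hT F (longJ hT J) b : ℤ) := by
  classical
  rw [StJ, ← alt_sum hT J hJ (fun x => (Fcell hT F x b : ℤ))]
  refine Finset.sum_congr rfl fun K hK => ?_
  rw [zsmul_eq_mul, Int.cast_id, fixJ, fix_parabolic hT hC (Finset.mem_powerset.mp hK) hb]
  push_cast
  rfl

theorem steinberg_eq_StJ (g : ↥(T.datum.group F)) :
    T.datum.steinbergCharacter F g = (StJ T F (Finset.range T.rank) g : ℂ) := by
  simp only [Cfsg.Lie.ChevalleyDatum.steinbergCharacter, StJ]
  push_cast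
  refine Finset.sum_congr rfl fun K _ => ?_
  congr 2
  simp only [fixJ, Cfsg.fixedPointCharacter]
  congr 1
  change Nat.card {q : ↥(T.datum.group F) ⧸ PG T F K // g • q = q} = _
  refine Nat.card_congr (Equiv.subtypeEquivRight fun q => ?_)
  obtain ⟨h, rfl⟩ := QuotientGroup.mk_surjective q
  exact ⟨fun hq => ⟨⟨h, by rw [parabolicIn_range hT hC]; trivial, rfl⟩, hq⟩, fun hq => hq.2⟩

omit hC in
theorem longest_neg {s : Fin T.n} (hs : T.half ≤ s.val) :
    (longJ hT (Finset.range T.rank) s).val < T.half :=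
  (longJ_negOn hT _).neg hT (wJ_le hT _ (longJ_mem hT _))
    (fun j hj hjJ => absurd (Finset.mem_range.mpr hj) hjJ) hs

omit hC in
theorem invN_longest : T.invN (longJ hT (Finset.range T.rank)) = T.half := by
  classical
  rw [invN]
  have : (Finset.univ.filter fun s : Fin T.n =>
      T.half ≤ s.val ∧ (longJ hT (Finset.range T.rank) s).val < T.half).card =
      (Finset.Ico T.half T.n).card := by
    refine Finset.card_bij (fun s _ => s.val) (fun s hs => ?_) (fun a _ b _ h => Fin.ext h)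
      (fun r hr => ?_)
    · exact Finset.mem_Ico.mpr ⟨(Finset.mem_filter.mp hs).2.1, s.2⟩
    · obtain ⟨h1, h2⟩ := Finset.mem_Ico.mp hr
      exact ⟨⟨r, h2⟩, Finset.mem_filter.mpr ⟨Finset.mem_univ _, h1, longest_neg hT h1⟩, rfl⟩
  rw [this, Nat.card_Ico]
  have : T.n = 2 * T.half := rfl
  omega

theorem steinberg_one [Fintype F] :
    T.datum.steinbergCharacter F 1 = (Fintype.card F : ℂ) ^ T.half := by
  rw [steinberg_eq_StJ hT hC, StJ_borel hT hC subset_rfl (one_mem _),
    Fcell_one hT hC (wJ_le hT _ (longJ_mem hT _)), invN_longest hT]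
  push_cast
  rfl

theorem steinberg_borel [Finite F] (b : ↥(BG T F)) :
    T.datum.steinbergCharacter F (b : ↥(T.datum.group F)) = Cfsg.fixedPointCharacter
      (((T.datum.diagonalSubgroup F).subgroupOf (T.datum.group F)).subgroupOf (BG T F)) b := by
  rw [steinberg_eq_StJ hT hC, StJ_borel hT hC subset_rfl b.2,
    Fcell_longest hT hC (wJ_le hT _ (longJ_mem hT _)) (fun s hs => longest_neg hT hs) b]
  simp [Cfsg.fixedPointCharacter]

open Classical in
theorem fixJ_one [Fintype F] {J K : Finset ℕ} (hKJ : K ⊆ J) :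
    fixJ T F J K 1 = ∑ x ∈ Finset.univ.filter (fun x => x ∈ WJ T hT J ∧ PosOn T hT K x),
      Fintype.card F ^ T.invN x := by
  rw [fixJ, fix_parabolic hT hC hKJ (one_mem _)]
  exact Finset.sum_congr rfl fun x hx =>
    Fcell_one hT hC (wJ_le hT J (Finset.mem_filter.mp hx).2.1)

/-- The index of `U` in a parabolic subgroup is prime to the characteristic. -/
theorem exists_card_parabolic [Fintype F] (p : ℕ) [hp : Fact p.Prime] [CharP F p] (J : Finset ℕ) :
    ∃ c : ℕ, ¬ p ∣ c ∧ Nat.card (PG T F J) = c * Fintype.card F ^ T.half := by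
  classical
  refine ⟨fixJ T F J ∅ 1 * Nat.card (T.datum.diagonalSubgroup F),
    hp.out.not_dvd_mul ?_ (card_coprime_diag hT p), ?_⟩
  · rw [fixJ_one hT hC (Finset.empty_subset J),
      ← Finset.add_sum_erase _ _ (a := (1 : Equiv.Perm (Fin T.n)))
        (Finset.mem_filter.mpr ⟨Finset.mem_univ _, one_mem _, fun i hi => by simp at hi⟩),
      invN_one hT, pow_zero]
    intro hd
    have hrest : p ∣ ∑ x ∈ (Finset.univ.filter fun x => x ∈ WJ T hT J ∧ PosOn T hT ∅ x).erase 1,
        Fintype.card F ^ T.invN x := by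
      refine Finset.dvd_sum fun x hx => ?_
      obtain ⟨hne, hmem⟩ := Finset.mem_erase.mp hx
      have h0 : T.invN x ≠ 0 := fun h0 =>
        hne (eq_one_of_invN hT (wJ_le hT J (Finset.mem_filter.mp hmem).2.1) h0)
      obtain ⟨m, -, hm⟩ := FiniteField.card F p
      exact dvd_pow (by rw [hm]; exact dvd_pow_self p (by simp)) h0
    exact hp.out.not_dvd_one ((Nat.dvd_add_left hrest).mp hd)
  · have h1 := card_cosets_mul (borel_le_parabolic (T := T) (F := F) J)
    have h2 : Nat.card {q : ↥(T.datum.group F) ⧸ BG T F // ∃ x ∈ PG T F J, q = ↑x} =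
        fixJ T F J ∅ 1 := by
      have h := parabolicIn_empty (T := T) (F := F) hT
      simp only [fixJ, one_smul, and_true]
      rw [h]
    have h3 : Nat.card (BG T F) = Fintype.card F ^ T.half * Nat.card (T.datum.diagonalSubgroup F) := by
      rw [← card_borel hT hC]
      exact Nat.card_congr (Subgroup.subgroupOfEquivOfLe (borel_le_group hT)).toEquiv
    rw [← h1, h2, h3]
    ring

/-- `U` inside the group. -/
theorem card_pos [Fintype F] :
    Nat.card ((T.datum.posUnipotent F).subgroupOf (T.datum.group F)) = Fintype.card F ^ T.half := by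
  rw [Nat.card_congr (Subgroup.subgroupOfEquivOfLe
    ((le_sup_left : _ ≤ T.datum.borelSubgroup F).trans (borel_le_group hT))).toEquiv,
    posUnipotent_rootGen hT, card_ge hT hC T.half T.half (Nat.two_mul _).symm le_rfl]

theorem pos_le_parabolicIn (J : Finset ℕ) :
    (T.datum.posUnipotent F).subgroupOf (T.datum.group F) ≤ PG T F J := fun g hg => by
  simp only [Cfsg.Lie.ChevalleyDatum.parabolicIn, Subgroup.mem_subgroupOf] at hg ⊢
  exact Subgroup.mem_sup_left (Subgroup.mem_sup_left hg)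

theorem isPGroup_pos [Fintype F] (p : ℕ) [Fact p.Prime] [CharP F p] :
    IsPGroup p ↥((T.datum.posUnipotent F).subgroupOf (T.datum.group F)) := by
  obtain ⟨m, -, hm⟩ := FiniteField.card F p
  exact IsPGroup.of_card (n := (m : ℕ) * T.half) (by rw [card_pos hT hC, hm, ← pow_mul])

theorem index_pos [Fintype F] (p : ℕ) [Fact p.Prime] [CharP F p] (J : Finset ℕ) :
    ¬ p ∣ (((T.datum.posUnipotent F).subgroupOf (T.datum.group F)).subgroupOf (PG T F J)).index := by
  obtain ⟨c, hc, hcard⟩ := exists_card_parabolic (F := F) hT hC p J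
  set U' := ((T.datum.posUnipotent F).subgroupOf (T.datum.group F)).subgroupOf (PG T F J)
  have h1 := U'.card_mul_index
  rw [Nat.card_congr (Subgroup.subgroupOfEquivOfLe (pos_le_parabolicIn hT hC J)).toEquiv,
    card_pos hT hC, hcard, mul_comm c] at h1
  rwa [mul_left_cancel₀ (pow_ne_zero _ Fintype.card_ne_zero) h1]

/-- Every element of `p`-power order of a parabolic subgroup is conjugate in it into `U`. -/
theorem exists_conj_pos [Fintype F] (p : ℕ) [Fact p.Prime] [CharP F p] (J : Finset ℕ)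
    {g : ↥(T.datum.group F)} (hg : g ∈ PG T F J) (hk : ∃ k : ℕ, orderOf g = p ^ k) :
    ∃ h ∈ PG T F J, ((h * g * h⁻¹ : ↥(T.datum.group F)) : GL T.I F) ∈ T.datum.posUnipotent F := by
  have hU : IsPGroup p ↥(((T.datum.posUnipotent F).subgroupOf (T.datum.group F)).subgroupOf
      (PG T F J)) :=
    (isPGroup_pos hT hC p).of_equiv (Subgroup.subgroupOfEquivOfLe (pos_le_parabolicIn hT hC J)).symm
  let S : Sylow p ↥(PG T F J) := hU.toSylow (index_pos hT hC p J)
  obtain ⟨k, hk⟩ := hk
  have hz : IsPGroup p ↥(Subgroup.zpowers (⟨g, hg⟩ : ↥(PG T F J))) :=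
    IsPGroup.of_card (n := k) (by rw [Nat.card_zpowers, Subgroup.orderOf_mk]; exact hk)
  obtain ⟨Q, hQ⟩ := hz.exists_le_sylow
  obtain ⟨h, rfl⟩ := MulAction.exists_smul_eq ↥(PG T F J) S Q
  obtain ⟨u, hu, e⟩ := hQ (Subgroup.mem_zpowers _)
  refine ⟨(h : ↥(T.datum.group F))⁻¹, inv_mem h.2, ?_⟩
  have e' : (h : ↥(T.datum.group F)) * u * (h : ↥(T.datum.group F))⁻¹ = g := congrArg Subtype.val e
  rw [inv_inv, ← e', show (h : ↥(T.datum.group F))⁻¹ * ((h : ↥(T.datum.group F)) * u *
    (h : ↥(T.datum.group F))⁻¹) * h = (u : ↥(T.datum.group F)) by group]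
  exact hu

end CfsgLib.KnownB.Steinberg
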