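import Cfsg.Agent.Lib.Chevalley.Length
import Cfsg.Agent.Lib.Chevalley.BN
import Mathlib.Data.Nat.Choose.Sum

/-!
Parabolic subgroups of the reflection group: minimal representatives, longest elements and
the alternating sum over sets of fundamental reflections.
-/

set_option autoImplicit false

namespace CfsgLib.KnownB.Steinberg

open CfsgLib.Chevalley CfsgLib.Chevalley.Tbl

/-- The subgroup generated by the fundamental reflections with index in `J`. -/
def WJ (T : Tbl) (hT : T.Valid) (J : Finset ℕ) : Subgroup (Equiv.Perm (Fin T.n)) :=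
  Subgroup.closure {w | ∃ i : Fin T.rank, i.val ∈ J ∧ w = T.refP hT i}

/-- The roots in the span of the fundamental ones with index in `J`. -/
def InS (T : Tbl) (J : Finset ℕ) (s : Fin T.n) : Prop := ∀ j < T.rank, j ∉ J → T.co s.val j = 0

/-- Positive on the fundamental roots of `J`. -/
def PosOn (T : Tbl) (hT : T.Valid) (J : Finset ℕ) (w : Equiv.Perm (Fin T.n)) : Prop :=
  ∀ i : Fin T.rank, i.val ∈ J → T.half ≤ (w (T.simpF hT i)).val

/-- Negative on the fundamental roots of `J`. -/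
def NegOn (T : Tbl) (hT : T.Valid) (J : Finset ℕ) (w : Equiv.Perm (Fin T.n)) : Prop :=
  ∀ i : Fin T.rank, i.val ∈ J → (w (T.simpF hT i)).val < T.half

variable {T : Tbl} (hT : T.Valid)
include hT

theorem wJ_le (J : Finset ℕ) : WJ T hT J ≤ T.WP hT :=
  (Subgroup.closure_le _).mpr (by rintro _ ⟨i, -, rfl⟩; exact Subgroup.subset_closure ⟨i, rfl⟩)

theorem wJ_top {J : Finset ℕ} (hJ : ∀ i < T.rank, i ∈ J) : WJ T hT J = T.WP hT :=
  le_antisymm (wJ_le hT J) ((Subgroup.closure_le _).mpr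
    (by rintro _ ⟨i, rfl⟩; exact Subgroup.subset_closure ⟨i, hJ i i.2, rfl⟩))

theorem wJ_mono {J K : Finset ℕ} (h : K ⊆ J) : WJ T hT K ≤ WJ T hT J :=
  Subgroup.closure_mono (by rintro _ ⟨i, hi, rfl⟩; exact ⟨i, h hi, rfl⟩)

theorem wJ_empty : WJ T hT ∅ = ⊥ := by
  rw [eq_bot_iff, WJ, Subgroup.closure_le]
  rintro _ ⟨i, hi, -⟩
  simp at hi

theorem refP_mem_wJ {J : Finset ℕ} {i : Fin T.rank} (hi : i.val ∈ J) : T.refP hT i ∈ WJ T hT J :=
  Subgroup.subset_closure ⟨i, hi, rfl⟩

theorem inS_simpF {J : Finset ℕ} {i : Fin T.rank} (hi : i.val ∈ J) : InS T J (T.simpF hT i) := by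
  intro j hj hjJ
  rw [co_simpF hT i hj, if_neg]
  rintro rfl
  exact hjJ hi

theorem inS_negF {J : Finset ℕ} {s : Fin T.n} (h : InS T J s) : InS T J (T.negF s) := by
  intro j hj hjJ
  rw [negF, co_neg hT s.2 hj, h j hj hjJ, _root_.neg_zero]

theorem wJ_co {J : Finset ℕ} {v : Equiv.Perm (Fin T.n)} (hv : v ∈ WJ T hT J) (s : Fin T.n)
    {j : ℕ} (hj : j < T.rank) (hjJ : j ∉ J) : T.co (v s).val j = T.co s.val j := by
  induction hv using Subgroup.closure_induction generalizing s with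
  | mem x hx =>
    obtain ⟨i, hi, rfl⟩ := hx
    rw [refP_apply, co_refl hT i.2 s.2 hj, if_neg (fun e : j = i => hjJ (by rw [e]; exact hi)),
      sub_zero]
  | one => rfl
  | mul x y _ _ hx hy => rw [Equiv.Perm.mul_apply, hx, hy]
  | inv x _ hx =>
    have := hx (x⁻¹ s)
    rw [show x (x⁻¹ s) = s from x.apply_symm_apply s] at this
    exact this.symm

theorem wJ_inS {J : Finset ℕ} {v : Equiv.Perm (Fin T.n)} (hv : v ∈ WJ T hT J) {s : Fin T.n}
    (h : InS T J s) : InS T J (v s) := fun j hj hjJ => by rw [wJ_co hT hv s hj hjJ, h j hj hjJ]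

theorem wJ_pos {J : Finset ℕ} {v : Equiv.Perm (Fin T.n)} (hv : v ∈ WJ T hT J) {s : Fin T.n}
    (hp : T.half ≤ s.val) (hs : ¬ InS T J s) : T.half ≤ (v s).val ∧ ¬ InS T J (v s) := by
  refine ⟨?_, fun h => hs fun j hj hjJ => by rw [← wJ_co hT hv s hj hjJ]; exact h j hj hjJ⟩
  simp only [InS] at hs
  push Not at hs
  obtain ⟨j, hj, hjJ, hne⟩ := hs
  by_contra hlt
  have h1 := co_nonpos' hT (not_le.mp hlt) hj
  have h2 := co_nonneg' hT hp hj
  rw [wJ_co hT hv s hj hjJ] at h1
  omega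

theorem PosOn.pos {J : Finset ℕ} {w : Equiv.Perm (Fin T.n)} (h : PosOn T hT J w)
    (hw : w ∈ T.WP hT) {s : Fin T.n} (hs : InS T J s) (hp : T.half ≤ s.val) :
    T.half ≤ (w s).val := by
  refine half_le_of_co_nonneg hT (w s).2 fun j hj => ?_
  rw [WP_linear hT hw s hj]
  refine Finset.sum_nonneg fun i _ => ?_
  by_cases hi : i.val ∈ J
  · exact mul_nonneg (co_nonneg' hT hp i.2) (co_nonneg' hT (h i hi) hj)
  · rw [hs i.val i.2 hi, zero_mul]

theorem NegOn.neg {J : Finset ℕ} {w : Equiv.Perm (Fin T.n)} (h : NegOn T hT J w)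
    (hw : w ∈ T.WP hT) {s : Fin T.n} (hs : InS T J s) (hp : T.half ≤ s.val) :
    (w s).val < T.half := by
  refine lt_half_of_co_nonpos hT (w s).2 fun j hj => ?_
  rw [WP_linear hT hw s hj]
  refine Finset.sum_nonpos fun i _ => ?_
  by_cases hi : i.val ∈ J
  · exact mul_nonpos_of_nonneg_of_nonpos (co_nonneg' hT hp i.2) (co_nonpos' hT (h i hi) hj)
  · rw [hs i.val i.2 hi, zero_mul]

theorem negF_lt_iff {s : Fin T.n} : (T.negF s).val < T.half ↔ T.half ≤ s.val :=
  ⟨fun h => by by_contra hlt; exact absurd (le_negF (not_le.mp hlt)) (not_le.mpr h), negF_lt⟩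

theorem PosOn.neg {J : Finset ℕ} {w : Equiv.Perm (Fin T.n)} (h : PosOn T hT J w)
    (hw : w ∈ T.WP hT) {s : Fin T.n} (hs : InS T J s) (hn : s.val < T.half) :
    (w s).val < T.half := by
  have h1 := h.pos hT hw (inS_negF hT hs) (le_negF hn)
  rw [WP_negF hT hw] at h1
  by_contra hge
  exact absurd h1 (not_le.mpr (negF_lt (not_lt.mp hge)))

theorem invN_mulJ {J : Finset ℕ} {u v : Equiv.Perm (Fin T.n)} (hu : u ∈ T.WP hT)
    (hpos : PosOn T hT J u) (hv : v ∈ WJ T hT J) :
    T.invN (u * v) = T.invN u + T.invN v := by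
  classical
  set A := Finset.univ.filter fun s : Fin T.n => T.half ≤ s.val ∧ ((u * v) s).val < T.half
  have hA : ∀ s : Fin T.n, s ∈ A ↔ T.half ≤ s.val ∧ (u (v s)).val < T.half := fun s => by
    rw [Finset.mem_filter]; exact and_iff_right (Finset.mem_univ s)
  have h1 : A.filter (InS T J) =
      Finset.univ.filter fun s : Fin T.n => T.half ≤ s.val ∧ (v s).val < T.half := by
    ext s
    simp only [Finset.mem_filter, Finset.mem_univ, true_and, hA]
    refine ⟨fun ⟨⟨hp, hn⟩, hs⟩ => ⟨hp, ?_⟩, fun ⟨hp, hn⟩ => ?_⟩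
    · by_contra hge
      have := hpos.pos hT hu (wJ_inS hT hv hs) (not_lt.mp hge)
      omega
    · have hs : InS T J s := by
        by_contra hs
        have := (wJ_pos hT hv hp hs).1
        omega
      exact ⟨⟨hp, hpos.neg hT hu (wJ_inS hT hv hs) hn⟩, hs⟩
  have h2 : (A.filter fun s => ¬ InS T J s).card =
      (Finset.univ.filter fun s : Fin T.n => T.half ≤ s.val ∧ (u s).val < T.half).card := by
    refine Finset.card_bij (fun s _ => v s) (fun s hs => ?_) (fun a _ b _ h => v.injective h)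
      (fun y hy => ?_)
    · simp only [Finset.mem_filter, hA, Finset.mem_univ, true_and] at hs ⊢
      exact ⟨(wJ_pos hT hv hs.1.1 hs.2).1, hs.1.2⟩
    · simp only [Finset.mem_filter, Finset.mem_univ, true_and] at hy
      have hys : ¬ InS T J y := fun h => by
        have := hpos.pos hT hu h hy.1
        omega
      obtain ⟨hp, hs⟩ := wJ_pos hT (inv_mem hv) hy.1 hys
      refine ⟨v⁻¹ y, ?_, v.apply_symm_apply y⟩
      simp only [Finset.mem_filter, hA]
      refine ⟨⟨hp, ?_⟩, hs⟩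
      rw [show v (v⁻¹ y) = y from v.apply_symm_apply y]
      exact hy.2
  show A.card = _
  rw [← Finset.card_filter_add_card_filter_not (InS T J) (s := A), h1, h2, Nat.add_comm]
  rfl

theorem invN_mul_refP {w : Equiv.Perm (Fin T.n)} (hw : w ∈ T.WP hT) (i : Fin T.rank)
    (h : T.half ≤ (w (T.simpF hT i)).val) : T.invN (w * T.refP hT i) = T.invN w + 1 := by
  have hp : PosOn T hT {i.val} w := fun j hj => by
    rw [Finset.mem_singleton] at hj
    rw [Fin.ext hj]
    exact h
  rw [invN_mulJ hT hw hp (refP_mem_wJ hT (Finset.mem_singleton_self _)), invN_refP]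

theorem invN_mul_refP_neg {w : Equiv.Perm (Fin T.n)} (hw : w ∈ T.WP hT) (i : Fin T.rank)
    (h : (w (T.simpF hT i)).val < T.half) : T.invN w = T.invN (w * T.refP hT i) + 1 := by
  have h1 : T.half ≤ ((w * T.refP hT i) (T.simpF hT i)).val := by
    rw [Equiv.Perm.mul_apply, refP_simpF, WP_negF hT hw]
    exact le_negF h
  have := invN_mul_refP hT (mul_mem hw (Subgroup.subset_closure ⟨i, rfl⟩)) i h1
  rwa [mul_assoc, refP_mul_self, mul_one] at this

theorem eq_one_of_invN {w : Equiv.Perm (Fin T.n)} (hw : w ∈ T.WP hT) (h : T.invN w = 0) : w = 1 := by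
  refine eq_one_of_pos hT hw fun i => ?_
  by_contra hlt
  have := invN_mul_refP_neg hT hw i (not_le.mp hlt)
  omega

theorem exists_rep (J : Finset ℕ) {w : Equiv.Perm (Fin T.n)} (hw : w ∈ T.WP hT) :
    ∃ x ∈ T.WP hT, PosOn T hT J x ∧ x⁻¹ * w ∈ WJ T hT J := by
  suffices h : ∀ m, ∀ w ∈ T.WP hT, T.invN w = m →
      ∃ x ∈ T.WP hT, PosOn T hT J x ∧ x⁻¹ * w ∈ WJ T hT J from h _ w hw rfl
  intro m
  induction m using Nat.strong_induction_on with
  | _ m IH =>
    intro w hw hm
    by_cases hpos : PosOn T hT J w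
    · exact ⟨w, hw, hpos, by rw [inv_mul_cancel]; exact one_mem _⟩
    simp only [PosOn] at hpos
    push Not at hpos
    obtain ⟨i, hi, hlt⟩ := hpos
    have h1 := invN_mul_refP_neg hT hw i hlt
    obtain ⟨x, hx, hxp, hxw⟩ := IH (T.invN (w * T.refP hT i)) (by omega) _
      (mul_mem hw (Subgroup.subset_closure ⟨i, rfl⟩)) rfl
    refine ⟨x, hx, hxp, ?_⟩
    have := mul_mem hxw (refP_mem_wJ hT hi)
    rwa [← mul_assoc x⁻¹, mul_assoc (x⁻¹ * w), refP_mul_self, mul_one] at this

theorem rep_unique {J : Finset ℕ} {x x' : Equiv.Perm (Fin T.n)} (hx : x ∈ T.WP hT)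
    (hx' : x' ∈ T.WP hT) (h : PosOn T hT J x) (h' : PosOn T hT J x')
    (hm : x⁻¹ * x' ∈ WJ T hT J) : x = x' := by
  have h1 := invN_mulJ hT hx h hm
  rw [mul_inv_cancel_left] at h1
  have hm' : x'⁻¹ * x ∈ WJ T hT J := by simpa using inv_mem hm
  have h2 := invN_mulJ hT hx' h' hm'
  rw [mul_inv_cancel_left] at h2
  have h3 := eq_one_of_invN hT (wJ_le hT J hm) (by omega)
  rwa [inv_mul_eq_one] at h3

/-- The number of inversions of the inverse. -/
theorem invN_inv {w : Equiv.Perm (Fin T.n)} (hw : w ∈ T.WP hT) : T.invN w⁻¹ = T.invN w := by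
  classical
  rw [invN, invN]
  refine Finset.card_bij' (fun s _ => T.negF (w⁻¹ s)) (fun s _ => T.negF (w s)) ?_ ?_ ?_ ?_
  · intro s hs
    rw [Finset.mem_filter] at hs ⊢
    refine ⟨Finset.mem_univ _, le_negF hs.2.2, ?_⟩
    rw [WP_negF hT hw, show w (w⁻¹ s) = s from w.apply_symm_apply s]
    exact negF_lt hs.2.1
  · intro s hs
    rw [Finset.mem_filter] at hs ⊢
    refine ⟨Finset.mem_univ _, le_negF hs.2.2, ?_⟩
    rw [WP_negF hT (inv_mem hw), show w⁻¹ (w s) = s from w.symm_apply_apply s]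
    exact negF_lt hs.2.1
  · intro s _
    simp only [WP_negF hT hw, show w (w⁻¹ s) = s from w.apply_symm_apply s, negF_negF]
  · intro s _
    simp only [WP_negF hT (inv_mem hw), show w⁻¹ (w s) = s from w.symm_apply_apply s, negF_negF]

theorem exists_longest_wJ (J : Finset ℕ) : ∃ v ∈ WJ T hT J, NegOn T hT J v := by
  obtain ⟨n, hn, w0, hm, h0⟩ := exists_longest (T := T) (F := ℚ) hT
  obtain ⟨w', hw', hm'⟩ := exists_mono hT hn
  obtain rfl := hm.unique hm'
  obtain ⟨x, hx, hxp, hxw⟩ := exists_rep hT J hw'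
  refine ⟨_, hxw, fun i hi => ?_⟩
  by_contra hge
  have h1 := hxp.pos hT hx (wJ_inS hT hxw (inS_simpF hT hi)) (not_lt.mp hge)
  rw [← Equiv.Perm.mul_apply x, mul_inv_cancel_left] at h1
  exact absurd h1 (not_le.mpr (h0 _ (half_le_simpF hT i)))

theorem negOn_unique {J : Finset ℕ} {v v' : Equiv.Perm (Fin T.n)} (hv : v ∈ WJ T hT J)
    (hv' : v' ∈ WJ T hT J) (h : NegOn T hT J v) (h' : NegOn T hT J v') : v = v' := by
  have hw : v⁻¹ * v' ∈ WJ T hT J := mul_mem (inv_mem hv) hv'
  have h1 : v⁻¹ * v' = 1 := by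
    refine eq_one_of_pos hT (wJ_le hT J hw) fun i => ?_
    by_cases hi : i.val ∈ J
    · by_contra hlt
      set t := (v⁻¹ * v') (T.simpF hT i) with ht
      have hs : InS T J t := wJ_inS hT hw (inS_simpF hT hi)
      have h2 := h.neg hT (wJ_le hT J hv) (inS_negF hT hs) (le_negF (not_le.mp hlt))
      rw [WP_negF hT (wJ_le hT J hv), negF_lt_iff hT, ht, ← Equiv.Perm.mul_apply v,
        mul_inv_cancel_left] at h2
      exact absurd h2 (not_le.mpr (h' i hi))
    · refine (wJ_pos hT hw (half_le_simpF hT i) fun hS => ?_).1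
      have := hS i.val i.2 hi
      rw [co_simpF hT i i.2, if_pos rfl] at this
      omega
  rwa [inv_mul_eq_one] at h1

/-- The longest element of `WJ`. -/
noncomputable def longJ (J : Finset ℕ) : Equiv.Perm (Fin T.n) := (exists_longest_wJ hT J).choose

theorem longJ_mem (J : Finset ℕ) : longJ hT J ∈ WJ T hT J :=
  (exists_longest_wJ hT J).choose_spec.1

theorem longJ_negOn (J : Finset ℕ) : NegOn T hT J (longJ hT J) :=
  (exists_longest_wJ hT J).choose_spec.2

theorem longJ_inv (J : Finset ℕ) : (longJ hT J)⁻¹ = longJ hT J := by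
  refine negOn_unique hT (inv_mem (longJ_mem hT J)) (longJ_mem hT J) (fun i hi => ?_)
    (longJ_negOn hT J)
  have hw := wJ_le hT J (longJ_mem hT J)
  set t := (longJ hT J)⁻¹ (T.simpF hT i) with ht
  by_contra hge
  have hs : InS T J t := wJ_inS hT (inv_mem (longJ_mem hT J)) (inS_simpF hT hi)
  have h2 := (longJ_negOn hT J).neg hT hw hs (not_lt.mp hge)
  rw [ht, show longJ hT J ((longJ hT J)⁻¹ (T.simpF hT i)) = T.simpF hT i from
    (longJ hT J).apply_symm_apply _] at h2
  exact absurd (half_le_simpF hT i) (not_le.mpr h2)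

theorem longJ_empty : longJ hT ∅ = 1 := by
  have := longJ_mem hT ∅
  rwa [wJ_empty, Subgroup.mem_bot] at this

/-- The pairs (element, set of ascents) summed with signs leave the longest element. -/
theorem alt_sum {M : Type*} [AddCommGroup M] (J : Finset ℕ) (hJ : J ⊆ Finset.range T.rank)
    [DecidablePred (· ∈ WJ T hT J)] [∀ K : Finset ℕ, DecidablePred (PosOn T hT K)]
    (f : Equiv.Perm (Fin T.n) → M) :
    ∑ K ∈ J.powerset, (-1 : ℤ) ^ K.card •
      (∑ x ∈ Finset.univ.filter (fun x => x ∈ WJ T hT J ∧ PosOn T hT K x), f x) =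
      f (longJ hT J) := by
  classical
  simp only [Finset.smul_sum, Finset.sum_filter, smul_ite, smul_zero]
  rw [Finset.sum_comm]
  rw [Finset.sum_eq_single (longJ hT J)]
  · rw [Finset.sum_eq_single ∅]
    · rw [if_pos ⟨longJ_mem hT J, fun i hi => by simp at hi⟩]
      simp
    · intro K hK hne
      rw [if_neg]
      rintro ⟨-, hpos⟩
      obtain ⟨k, hk⟩ := Finset.nonempty_iff_ne_empty.mpr hne
      have hkJ := Finset.mem_powerset.mp hK hk
      have hkr := Finset.mem_range.mp (hJ hkJ)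
      exact absurd (hpos ⟨k, hkr⟩ hk) (not_le.mpr (longJ_negOn hT J ⟨k, hkr⟩ hkJ))
    · simp
  · intro x _ hx
    by_cases hxW : x ∈ WJ T hT J
    · set A := J.filter (fun j => ∀ h : j < T.rank, T.half ≤ (x (T.simpF hT ⟨j, h⟩)).val) with hA
      have hiff : ∀ K ∈ J.powerset, (x ∈ WJ T hT J ∧ PosOn T hT K x) ↔ K ∈ A.powerset := by
        intro K hK
        rw [Finset.mem_powerset] at hK ⊢
        constructor
        · intro h j hj
          rw [hA, Finset.mem_filter]
          exact ⟨hK hj, fun hjr => h.2 ⟨j, hjr⟩ hj⟩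
        · intro h
          exact ⟨hxW, fun i hi => (Finset.mem_filter.mp (h hi)).2 i.2⟩
      have hne : A ≠ ∅ := by
        intro hA0
        refine hx (negOn_unique hT hxW (longJ_mem hT J) (fun i hi => ?_) (longJ_negOn hT J))
        by_contra hge
        have : i.val ∈ A := Finset.mem_filter.mpr ⟨hi, fun _ => not_lt.mp hge⟩
        simp [hA0] at this
      rw [Finset.sum_congr rfl fun K hK => by rw [if_congr (hiff K hK) rfl rfl],
        ← Finset.sum_filter, Finset.filter_mem_eq_inter,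
        Finset.inter_eq_right.mpr (Finset.powerset_mono.mpr (Finset.filter_subset _ _)),
        ← Finset.sum_smul, Finset.sum_powerset_neg_one_pow_card, if_neg hne, zero_smul]
    · exact Finset.sum_eq_zero fun K _ => by rw [if_neg fun h => hxW h.1]
  · simp

end CfsgLib.KnownB.Steinberg
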