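import Cfsg.Agent.Lib.Chevalley.Bruhat
import Cfsg.Agent.Lib.KnownB.Steinberg.WeylJ
import Cfsg.Prelude.Def_ParabolicCharacters

/-!
Bruhat cells and the cosets of standard parabolic subgroups of a Chevalley group.
-/

set_option autoImplicit false

namespace CfsgLib.KnownB.Steinberg

open CfsgLib.Chevalley CfsgLib.Chevalley.Tbl

/-- The Borel subgroup inside the group. -/
abbrev BG (T : Tbl) (F : Type*) [Field F] : Subgroup ↥(T.datum.group F) :=
  (T.datum.borelSubgroup F).subgroupOf (T.datum.group F)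

/-- The standard parabolic subgroup inside the group. -/
abbrev PG (T : Tbl) (F : Type*) [Field F] (J : Finset ℕ) : Subgroup ↥(T.datum.group F) :=
  T.datum.parabolicIn F J

variable {T : Tbl} {F : Type*} [Field F] (hT : T.Valid)
include hT

theorem parabolic_le_group (J : Set ℕ) : T.datum.parabolicSubgroup F J ≤ T.datum.group F := by
  refine sup_le (borel_le_group hT) ((Subgroup.closure_le _).mpr ?_)
  rintro g ⟨j, -, hj, hg⟩
  rw [(eq_nMat_simple_iff hT hj g).mp hg]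
  exact nU_mem_group hT (simple_lt hT hj) 1

omit hT in
theorem borel_le_parabolic (J : Finset ℕ) : BG T F ≤ PG T F J := fun _ hg => by
  simp only [Cfsg.Lie.ChevalleyDatum.parabolicIn, Subgroup.mem_subgroupOf] at hg ⊢
  exact Subgroup.mem_sup_left hg

theorem parabolicIn_mono {J K : Finset ℕ} (h : K ⊆ J) : PG T F K ≤ PG T F J := fun g hg => by
  simp only [Cfsg.Lie.ChevalleyDatum.parabolicIn, Subgroup.mem_subgroupOf] at hg ⊢
  refine (sup_le le_sup_left ((Subgroup.closure_le _).mpr ?_) : _ ≤ T.datum.parabolicSubgroup F J) hg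
  rintro x ⟨j, hj, hjr, hx⟩
  exact Subgroup.mem_sup_right (Subgroup.subset_closure ⟨j, Finset.mem_coe.mpr (h hj), hjr, hx⟩)

theorem mem_parabolic_of_mono {J : Finset ℕ} {n : GL T.I F} {v : Equiv.Perm (Fin T.n)}
    (hn : n ∈ T.datum.monomialSubgroup F) (hm : T.Mono n v) (hv : v ∈ WJ T hT J) :
    n ∈ T.datum.parabolicSubgroup F J := by
  obtain ⟨m, hm1, hm2, hm3⟩ : ∃ m, m ∈ T.datum.monomialSubgroup F ∧
      m ∈ T.datum.parabolicSubgroup F J ∧ T.Mono m v := by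
    clear hm hn
    induction hv using Subgroup.closure_induction with
    | mem x hx =>
      obtain ⟨i, hi, rfl⟩ := hx
      exact ⟨_, nU_simple_mem_N hT i, Subgroup.mem_sup_right (Subgroup.subset_closure
        ⟨i, Finset.mem_coe.mpr hi, i.2, (eq_nMat_simple_iff hT i.2 _).mpr rfl⟩),
        mono_nU_simple hT i⟩
    | one => exact ⟨1, one_mem _, one_mem _, Mono.one⟩
    | mul x y _ _ hx hy =>
      obtain ⟨a, a1, a2, a3⟩ := hx
      obtain ⟨b, b1, b2, b3⟩ := hy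
      exact ⟨a * b, mul_mem a1 b1, mul_mem a2 b2, a3.mul b3⟩
    | inv x _ hx =>
      obtain ⟨a, a1, a2, a3⟩ := hx
      exact ⟨a⁻¹, inv_mem a1, inv_mem a2, a3.inv⟩
  have hd : m⁻¹ * n ∈ T.datum.diagonalSubgroup F := by
    refine mem_diag_of_mono_one hT (mul_mem (inv_mem hm1) hn) ?_
    have := hm3.inv.mul hm
    rwa [inv_mul_cancel] at this
  have hb : m⁻¹ * n ∈ T.datum.parabolicSubgroup F J :=
    Subgroup.mem_sup_left (Subgroup.mem_sup_right hd)
  have := mul_mem hm2 hb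
  rwa [mul_inv_cancel_left] at this

open Classical in
/-- A monomial representative of an element of the reflection group. -/
noncomputable def nG (F : Type*) [Field F] (w : Equiv.Perm (Fin T.n)) : ↥(T.datum.group F) :=
  if h : w ∈ T.WP hT then
    ⟨((wHom_surjective (F := F) hT ⟨w, h⟩).choose : GL T.I F),
      monomial_le_group hT (wHom_surjective (F := F) hT ⟨w, h⟩).choose.2⟩
  else 1

theorem nG_mem (w : Equiv.Perm (Fin T.n)) :
    ((nG hT F w : ↥(T.datum.group F)) : GL T.I F) ∈ T.datum.monomialSubgroup F := by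
  unfold nG
  split_ifs with h
  · exact (wHom_surjective (F := F) hT ⟨w, h⟩).choose.2
  · exact one_mem _

theorem mono_nG {w : Equiv.Perm (Fin T.n)} (hw : w ∈ T.WP hT) :
    T.Mono ((nG hT F w : ↥(T.datum.group F)) : GL T.I F) w := by
  unfold nG
  rw [dif_pos hw]
  have := mono_wHom (F := F) hT (wHom_surjective (F := F) hT ⟨w, hw⟩).choose
  rwa [(wHom_surjective (F := F) hT ⟨w, hw⟩).choose_spec] at this

variable (hC : T.chkComm = true)
include hC

theorem cell_unique {b b' c c' n n' : GL T.I F} {w w' : Equiv.Perm (Fin T.n)}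
    (hb : b ∈ T.datum.borelSubgroup F) (hb' : b' ∈ T.datum.borelSubgroup F)
    (hc : c ∈ T.datum.borelSubgroup F) (hc' : c' ∈ T.datum.borelSubgroup F)
    (hn : n ∈ T.datum.monomialSubgroup F) (hn' : n' ∈ T.datum.monomialSubgroup F)
    (hm : T.Mono n w) (hm' : T.Mono n' w') (he : b * n * c = b' * n' * c') : w = w' := by
  let P := bnPair hT hC F
  have hnG := monomial_le_group hT hn
  have hn'G := monomial_le_group hT hn'
  let N : ↥P.N := ⟨⟨n, hnG⟩, Subgroup.mem_subgroupOf.mpr hn⟩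
  let N' : ↥P.N := ⟨⟨n', hn'G⟩, Subgroup.mem_subgroupOf.mpr hn'⟩
  let g : ↥(T.datum.group F) :=
    ⟨b * n * c, mul_mem (mul_mem (borel_le_group hT hb) hnG) (borel_le_group hT hc)⟩
  have h1 : g ∈ BNPair.Basic.cell P (BNPair.Basic.proj P N) := by
    rw [BNPair.Basic.cell_proj, DoubleCoset.mem_doubleCoset]
    exact ⟨⟨b, borel_le_group hT hb⟩, Subgroup.mem_subgroupOf.mpr hb,
      ⟨c, borel_le_group hT hc⟩, Subgroup.mem_subgroupOf.mpr hc, rfl⟩
  have h2 : g ∈ BNPair.Basic.cell P (BNPair.Basic.proj P N') := by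
    rw [BNPair.Basic.cell_proj, DoubleCoset.mem_doubleCoset]
    exact ⟨⟨b', borel_le_group hT hb'⟩, Subgroup.mem_subgroupOf.mpr hb',
      ⟨c', borel_le_group hT hc'⟩, Subgroup.mem_subgroupOf.mpr hc', Subtype.ext he⟩
  have h3 := (BNPair.Basic.proj_eq_iff P).mp (BNPair.Basic.cell_inj P h1 h2)
  have hH : n⁻¹ * n' ∈ T.datum.diagonalSubgroup F :=
    (borel_inf_monomial (T := T) (F := F) hT).le <| Subgroup.mem_inf.mpr
      ⟨Subgroup.mem_subgroupOf.mp h3, mul_mem (inv_mem hn) hn'⟩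
  have h4 := (hm.inv.mul hm').unique (mono_diag hT hH)
  exact inv_mul_eq_one.mp h4

/-- Left multiplication by a minimal representative absorbs `B`. -/
theorem absorb {J : Finset ℕ} {x v : Equiv.Perm (Fin T.n)} (hx : x ∈ T.WP hT)
    (hpos : PosOn T hT J x) (hv : v ∈ WJ T hT J) {nx nv b : GL T.I F} (hmx : T.Mono nx x)
    (hnx : nx ∈ T.datum.monomialSubgroup F)
    (hnv : nv ∈ T.datum.monomialSubgroup F) (hmv : T.Mono nv v)
    (hb : b ∈ T.datum.borelSubgroup F) :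
    ∃ b' ∈ T.datum.borelSubgroup F, ∃ c ∈ T.datum.borelSubgroup F,
      nx * b * nv = b' * (nx * nv) * c := by
  obtain ⟨u, hu, h, hh, rfl⟩ := (mem_borel_iff hT).mp hb
  rw [posUnipotent_rootGen hT] at hu
  obtain ⟨p, hp, q, hq, rfl⟩ := exists_factor hT hC (T.posSet x) (T.negSet x) (fun r hr hrp => by
    rcases Nat.lt_or_ge (x ⟨r, hr⟩).val T.half with h | h
    · exact Or.inr ⟨hr, hrp, h⟩
    · exact Or.inl ⟨hr, hrp, h⟩) T.half T.half (Nat.two_mul _).symm le_rfl _ hu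
  refine ⟨nx * p * nx⁻¹, Subgroup.mem_sup_left ?_,
    (nv⁻¹ * q * nv) * (nv⁻¹ * h * nv), mul_mem (Subgroup.mem_sup_left ?_) (Subgroup.mem_sup_right ?_),
    by group⟩
  · rw [posUnipotent_rootGen hT]
    exact conj_mem_rootGen hT hmx (fun s ⟨_, _, h⟩ => h) hp
  · rw [posUnipotent_rootGen hT]
    have := conj_mem_rootGen (Q := fun r => T.half ≤ r) hT hmv.inv (fun s ⟨hs', hsp, hsx⟩ => ?_) hq
    · refine (wJ_pos hT (inv_mem hv) hsp fun hS => ?_).1
      exact absurd (hpos.pos hT hx hS hsp) (not_le.mpr hsx)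
    · rwa [inv_inv] at this
  · have := conj_diag hT (inv_mem hnv) hh
    rwa [inv_inv] at this

theorem parabolic_cell {J : Finset ℕ} {g : GL T.I F} (hg : g ∈ T.datum.parabolicSubgroup F J) :
    ∃ b ∈ T.datum.borelSubgroup F, ∃ n ∈ T.datum.monomialSubgroup F, ∃ v ∈ WJ T hT J,
      T.Mono n v ∧ ∃ c ∈ T.datum.borelSubgroup F, g = b * n * c := by
  set B := T.datum.borelSubgroup F
  let M : Set (GL T.I F) := {g | ∃ b ∈ B, ∃ n ∈ T.datum.monomialSubgroup F, ∃ v ∈ WJ T hT J,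
      T.Mono n v ∧ ∃ c ∈ B, g = b * n * c}
  have hB : ∀ b ∈ B, ∀ x ∈ M, b * x ∈ M := by
    rintro b hb _ ⟨b', hb', n, hn, v, hv, hm, c, hc, rfl⟩
    exact ⟨b * b', mul_mem hb hb', n, hn, v, hv, hm, c, hc, by group⟩
  have hs : ∀ i : Fin T.rank, i.val ∈ J → ∀ x ∈ M, T.nU F (T.simple i) 1 * x ∈ M := by
    rintro i hi _ ⟨b, hb, n, hn, v, hv, hm, c, hc, rfl⟩
    obtain ⟨a, ha, c', hc', e | e⟩ := bn_axiom hT hC i hn hb
    · exact ⟨a, ha, _, mul_mem (nU_simple_mem_N hT i) hn, _,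
        mul_mem (refP_mem_wJ hT hi) hv, (mono_nU_simple hT i).mul hm, c' * c, mul_mem hc' hc,
        by rw [← mul_assoc _ (b * n), ← mul_assoc _ b, e]; group⟩
    · exact ⟨a, ha, n, hn, v, hv, hm, c' * c, mul_mem hc' hc,
        by rw [← mul_assoc _ (b * n), ← mul_assoc _ b, e]; group⟩
  have key : ∀ y ∈ T.datum.parabolicSubgroup F J, ∀ x ∈ M, y * x ∈ M ∧ y⁻¹ * x ∈ M := by
    intro y hy
    rw [Cfsg.Lie.ChevalleyDatum.parabolicSubgroup, ← Subgroup.closure_eq (T.datum.borelSubgroup F),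
      ← Subgroup.closure_union] at hy
    induction hy using Subgroup.closure_induction with
    | mem y hy =>
      rcases hy with hy | ⟨j, hj, hjr, hy⟩
      · exact fun x hx => ⟨hB y hy x hx, hB _ (inv_mem hy) x hx⟩
      · have hy' := (eq_nMat_simple_iff hT hjr y).mp hy
        subst hy'
        refine fun x hx => ⟨hs ⟨j, hjr⟩ hj x hx, ?_⟩
        have hsq : (T.nU F (T.simple j) 1 * T.nU F (T.simple j) 1)⁻¹ ∈ B :=
          inv_mem (Subgroup.mem_sup_right (nU_sq_mem hT (simple_lt hT hjr)))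
        have := hB _ hsq _ (hs ⟨j, hjr⟩ hj x hx)
        rwa [show (T.nU F (T.simple j) 1 * T.nU F (T.simple j) 1)⁻¹ *
          (T.nU F (T.simple j) 1 * x) = (T.nU F (T.simple j) 1)⁻¹ * x by group] at this
    | one => exact fun x hx => ⟨by rwa [one_mul], by rwa [inv_one, one_mul]⟩
    | mul y z _ _ hy hz =>
      intro x hx
      refine ⟨?_, ?_⟩
      · rw [mul_assoc]; exact (hy _ (hz x hx).1).1
      · rw [_root_.mul_inv_rev, mul_assoc]; exact (hz _ (hy x hx).2).2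
    | inv y _ hy => exact fun x hx => ⟨(hy x hx).2, by rw [inv_inv]; exact (hy x hx).1⟩
  have h1 : (1 : GL T.I F) ∈ M :=
    ⟨1, one_mem _, 1, one_mem _, 1, one_mem _, Mono.one, 1, one_mem _, by group⟩
  have := (key g hg 1 h1).1
  rwa [mul_one] at this

/-- Cosets of a parabolic subgroup in two cells coincide only within one cell. -/
theorem coset_cell {J : Finset ℕ} {x x' : Equiv.Perm (Fin T.n)} (hx : x ∈ T.WP hT)
    (hx' : x' ∈ T.WP hT) (hp : PosOn T hT J x) (hp' : PosOn T hT J x')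
    {a a' : ↥(T.datum.group F)} (ha : a ∈ BG T F) (ha' : a' ∈ BG T F)
    (h : (a * nG hT F x)⁻¹ * (a' * nG hT F x') ∈ PG T F J) :
    x = x' ∧ (a * nG hT F x)⁻¹ * (a' * nG hT F x') ∈ BG T F := by
  rw [Subgroup.mem_subgroupOf] at ha ha'
  have h' : ((a * nG hT F x)⁻¹ * (a' * nG hT F x') : ↥(T.datum.group F)).val ∈
      T.datum.parabolicSubgroup F J := Subgroup.mem_subgroupOf.mp h
  obtain ⟨b, hb, n, hn, v, hv, hm, c, hc, e⟩ := parabolic_cell hT hC h'
  obtain ⟨b', hb', c', hc', e'⟩ := absorb hT hC hx hp hv (mono_nG (F := F) hT hx) (nG_mem hT x) hn hm hb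
  have e2 : (a' : GL T.I F) * (nG hT F x' : GL T.I F) * 1 =
      ((a : GL T.I F) * b') * ((nG hT F x : GL T.I F) * n) * (c' * c) := by
    simp only [Subgroup.coe_mul, InvMemClass.coe_inv] at e
    rw [inv_mul_eq_iff_eq_mul] at e
    calc (a' : GL T.I F) * (nG hT F x' : GL T.I F) * 1
        = (a : GL T.I F) * ((nG hT F x : GL T.I F) * b * n) * c := by rw [mul_one, e]; group
      _ = _ := by rw [e']; group
  have hw := cell_unique hT hC ha' (mul_mem ha hb') (one_mem _) (mul_mem hc' hc) (nG_mem hT x')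
    (mul_mem (nG_mem hT x) hn) (mono_nG hT hx') ((mono_nG (F := F) hT hx).mul hm) e2
  have hxx : x = x' := rep_unique hT hx hx' hp hp' (by rw [hw, inv_mul_cancel_left]; exact hv)
  subst hxx
  refine ⟨rfl, ?_⟩
  have hv1 : v = 1 := left_eq_mul.mp hw
  subst hv1
  rw [Subgroup.mem_subgroupOf, e]
  exact mul_mem (mul_mem hb (Subgroup.mem_sup_right (mem_diag_of_mono_one hT hn hm))) hc

omit hC in
theorem coset_of_cell (J : Finset ℕ) {g : ↥(T.datum.group F)} {b n c : GL T.I F}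
    {w : Equiv.Perm (Fin T.n)} (hb : b ∈ T.datum.borelSubgroup F)
    (hn : n ∈ T.datum.monomialSubgroup F) (hw : w ∈ T.WP hT) (hm : T.Mono n w)
    (hc : c ∈ T.datum.borelSubgroup F) (he : (g : GL T.I F) = b * n * c) :
    ∃ x ∈ T.WP hT, PosOn T hT J x ∧ x⁻¹ * w ∈ WJ T hT J ∧ ∃ a ∈ BG T F,
      (g : ↥(T.datum.group F) ⧸ PG T F J) = ↑(a * nG hT F x) := by
  obtain ⟨x, hx, hxp, hxw⟩ := exists_rep hT J hw
  refine ⟨x, hx, hxp, hxw, ⟨b, borel_le_group hT hb⟩, Subgroup.mem_subgroupOf.mpr hb, ?_⟩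
  rw [QuotientGroup.eq]
  simp only [Cfsg.Lie.ChevalleyDatum.parabolicIn, Subgroup.mem_subgroupOf, Subgroup.coe_mul,
    InvMemClass.coe_inv, he]
  rw [show (b * n * c)⁻¹ * (b * (nG hT F x : GL T.I F)) =
    c⁻¹ * ((nG hT F x : GL T.I F)⁻¹ * n)⁻¹ by group]
  refine mul_mem (Subgroup.mem_sup_left (inv_mem hc)) (inv_mem ?_)
  exact mem_parabolic_of_mono hT (mul_mem (inv_mem (nG_mem hT x)) hn)
    ((mono_nG (F := F) hT hx).inv.mul hm) hxw

omit hC in
/-- The cosets of `B` in the cell of `w` fixed by `g`. -/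
noncomputable def Fcell (F : Type*) [Field F] (w : Equiv.Perm (Fin T.n))
    (g : ↥(T.datum.group F)) : ℕ :=
  Nat.card {q : ↥(T.datum.group F) ⧸ BG T F //
    (∃ a ∈ BG T F, q = ↑(a * nG hT F w)) ∧ g • q = q}

open Classical in
theorem fix_parabolic [Finite F] {J K : Finset ℕ} (hKJ : K ⊆ J) {b : ↥(T.datum.group F)}
    (hb : b ∈ BG T F) :
    Nat.card {q : ↥(T.datum.group F) ⧸ PG T F K //
        (∃ g ∈ PG T F J, q = ↑g) ∧ b • q = q} =
      ∑ x ∈ Finset.univ.filter (fun x => x ∈ WJ T hT J ∧ PosOn T hT K x), Fcell hT F x b := by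
  set S := Finset.univ.filter (fun x => x ∈ WJ T hT J ∧ PosOn T hT K x) with hS
  have hSmem : ∀ x ∈ S, x ∈ WJ T hT J ∧ PosOn T hT K x := fun x hx => (Finset.mem_filter.mp hx).2
  simp only [Fcell]
  rw [← Finset.sum_coe_sort S, ← Nat.card_sigma]
  have hf : ∀ y : (x : ↥S) × {q : ↥(T.datum.group F) ⧸ BG T F //
      (∃ a ∈ BG T F, q = ↑(a * nG hT F x.1)) ∧ b • q = q},
      (∃ g ∈ PG T F J, Subgroup.quotientMapOfLE (borel_le_parabolic K) y.2.1 = ↑g) ∧
        b • Subgroup.quotientMapOfLE (borel_le_parabolic K) y.2.1 =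
          Subgroup.quotientMapOfLE (borel_le_parabolic K) y.2.1 := by
    intro y
    obtain ⟨⟨x, hx⟩, q, ⟨a, ha, rfl⟩, hq⟩ := y
    rw [Subgroup.quotientMapOfLE_apply_mk]
    refine ⟨⟨a * nG hT F x, mul_mem (borel_le_parabolic J ha) ?_, rfl⟩, ?_⟩
    · exact Subgroup.mem_subgroupOf.mpr (mem_parabolic_of_mono hT (nG_mem hT x)
        (mono_nG hT (wJ_le hT J (hSmem x hx).1)) (hSmem x hx).1)
    · rw [MulAction.Quotient.smul_coe, smul_eq_mul] at hq ⊢
      exact QuotientGroup.eq.mpr (borel_le_parabolic K (QuotientGroup.eq.mp hq))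
  refine (Nat.card_eq_of_bijective
    (fun y => ⟨Subgroup.quotientMapOfLE (borel_le_parabolic K) y.2.1, hf y⟩) ⟨?_, ?_⟩).symm
  · rintro ⟨⟨x, hx⟩, q, ⟨a, ha, rfl⟩, hq⟩ ⟨⟨x', hx'⟩, q', ⟨a', ha', rfl⟩, hq'⟩ he
    have he' := congrArg Subtype.val he
    simp only [Subgroup.quotientMapOfLE_apply_mk] at he'
    obtain ⟨rfl, hB⟩ := coset_cell hT hC (wJ_le hT J (hSmem x hx).1) (wJ_le hT J (hSmem x' hx').1)
      (hSmem x hx).2 (hSmem x' hx').2 ha ha' (QuotientGroup.eq.mp he')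
    obtain hqq : ((a * nG hT F x : ↥(T.datum.group F)) : ↥(T.datum.group F) ⧸ BG T F) =
      ↑(a' * nG hT F x) := QuotientGroup.eq.mpr hB
    simp only [hqq]
  · rintro ⟨q, ⟨g, hg, rfl⟩, hq⟩
    obtain ⟨c1, hc1, n, hn, v, hv, hm, c2, hc2, e⟩ :=
      parabolic_cell hT hC (Subgroup.mem_subgroupOf.mp hg)
    obtain ⟨x, hx, hxp, hxv, a, ha, hax⟩ :=
      coset_of_cell hT K hc1 hn (wJ_le hT J hv) hm hc2 e
    have hxJ : x ∈ WJ T hT J := by
      have := mul_mem hv (inv_mem (wJ_mono hT hKJ hxv))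
      rwa [_root_.mul_inv_rev, inv_inv, mul_inv_cancel_left] at this
    refine ⟨⟨⟨x, Finset.mem_filter.mpr ⟨Finset.mem_univ _, hxJ, hxp⟩⟩,
      ↑(a * nG hT F x), ⟨a, ha, rfl⟩, ?_⟩, Subtype.ext hax.symm⟩
    rw [MulAction.Quotient.smul_coe, smul_eq_mul, QuotientGroup.eq]
    rw [hax, MulAction.Quotient.smul_coe, smul_eq_mul, QuotientGroup.eq, ← mul_assoc b a] at hq
    rw [← mul_assoc b a]
    exact (coset_cell hT hC hx hx hxp hxp (mul_mem hb ha) ha hq).2
end CfsgLib.KnownB.Steinberg
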