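import Cfsg.Agent.Lib.KnownB.Steinberg.Semisimple
import Cfsg.Agent.Lib.Char.Integral
import Mathlib.GroupTheory.SpecificGroups.Cyclic

/-!
The value of the alternating sum at an element of order prime to the characteristic.
-/

set_option autoImplicit false

namespace CfsgLib.KnownB.Steinberg

open CfsgLib.Chevalley CfsgLib.Chevalley.Tbl

variable {T : Tbl} (hT : T.Valid) {F : Type*} [Field F] (hC : T.chkComm = true)
  (hS : T.chkSupp = true)
include hT hC hS

theorem stab_sub {J K' : Finset ℕ} {g : ↥(T.datum.group F)}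
    (hg : g ∈ PG T F J)
    (h : (nG hT F (zJ hT J))⁻¹ * g * nG hT F (zJ hT J) ∈ PG T F (preJ hT J K')) :
    g ∈ PG T F K' := by
  obtain ⟨u, -, y, hy, huy, ⟨b, hb, n, hn, hm, c, hc, e⟩, -⟩ :=
    stab_cell hT hC (zJ_mem hT J) (preJ_posOn hT J K') (zJ_posOn hT J) hg h
  refine mem_parabolic_of_cell hT hb hn hm ?_ hc e
  rw [eq_mul_inv_of_mul_eq huy]
  exact conj_out hT hy

theorem parabolic_split {J K' : Finset ℕ} (hK : K' ⊆ J) {t : ↥(T.datum.group F)}
    (ht : t ∈ PG T F K') :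
    ∃ v ∈ UG T F J, ∃ l ∈ PG T F J,
      (nG hT F (zJ hT J))⁻¹ * l * nG hT F (zJ hT J) ∈ PG T F (preJ hT J K') ∧ t = v * l := by
  obtain ⟨v, hv, l, hl, hl', e⟩ := levi_split hT hC hS (parabolicIn_mono hT hK ht)
  refine ⟨v, hv, l, hl, ?_, e⟩
  have hlK : l ∈ PG T F K' := by
    have := mul_mem (inv_mem (UG_le_parabolic hT hC hS K' hv)) ht
    rwa [e, inv_mul_cancel_left] at this
  obtain ⟨u, -, y, -, huy, ⟨b, hb, n, hn, hm, c, hc, e1⟩, ⟨b2, hb2, n2, hn2, hm2, c2, hc2, e2⟩⟩ :=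
    stab_cell hT hC (zJ_mem hT J) (preJ_posOn hT J J) (zJ_posOn hT J) hl hl'
  obtain ⟨b', hb', n', hn', u', hu', hm', c', hc', e'⟩ :=
    parabolic_cell hT hC (Subgroup.mem_subgroupOf.mp hlK)
  have huu := cell_unique hT hC hb hb' hc hc' hn hn' hm hm' (e1.symm.trans e')
  refine mem_parabolic_of_cell hT hb2 hn2 hm2 ?_ hc2 e2
  rw [eq_inv_mul_of_mul_eq huy.symm, huu, ← mul_assoc]
  exact conj_in hT hK hu'

/-- The fixed points of a semisimple element in the orbit that does not cancel. -/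
theorem orbit_fibre [Fintype F] (p : ℕ) [hp : Fact p.Prime] [CharP F p] {J K' : Finset ℕ}
    (hK : K' ⊆ J) {s : ↥(T.datum.group F)} (hs : s ∈ PG T F J) (hsp : ¬ p ∣ orderOf s) :
    orbFix hT F J (preJ hT J K') (zJ hT J) s = uCent T F J s * fixJ T F J K' s := by
  classical
  set nz := nG hT F (zJ hT J)
  set K := preJ hT J K'
  have hstab : ∀ l, nz⁻¹ * l * nz ∈ PG T F K → ∀ g,
      ((g * l * nz : ↥(T.datum.group F)) : ↥(T.datum.group F) ⧸ PG T F K) = ↑(g * nz) := by
    intro l hl g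
    rw [QuotientGroup.eq, show (g * l * nz)⁻¹ * (g * nz) = (nz⁻¹ * l * nz)⁻¹ by group]
    exact inv_mem hl
  have hA : Subgroup.zpowers s ≤ PG T F J := Subgroup.zpowers_le.mpr hs
  have hfib : ∀ pt : {q : ↥(T.datum.group F) ⧸ PG T F K' //
      (∃ h ∈ PG T F J, q = ↑h) ∧ s • q = q},
      ∃ h ∈ PG T F J, pt.1 = ↑h ∧
        s • ((h * nz : ↥(T.datum.group F)) : ↥(T.datum.group F) ⧸ PG T F K) = ↑(h * nz) := by
    rintro ⟨_, ⟨g, hg, rfl⟩, hfix⟩
    have hcop : (Nat.card ↥(Subgroup.zpowers s)).Coprime (Nat.card ↥(UG T F J)) := by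
      obtain ⟨k, hk⟩ := IsPGroup.iff_card.mp ((isPGroup_pos (F := F) hT hC p).to_le
        (fun v hv => UG_le_pos hT hC hS hv : UG T F J ≤ _))
      rw [Nat.card_zpowers, hk]
      exact Nat.Coprime.pow_right _ ((hp.out.coprime_iff_not_dvd.mpr hsp).symm)
    have hnorm : Subgroup.zpowers s ≤ Subgroup.normalizer (UG T F J : Set ↥(T.datum.group F)) := by
      intro a ha
      rw [Subgroup.mem_normalizer_iff]
      refine fun v => ⟨fun hv => UG_normal hT hC hS (hA ha) hv, fun hv => ?_⟩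
      have := UG_normal hT hC hS (inv_mem (hA ha)) hv
      simpa [mul_assoc] using this
    let S : Set (↥(T.datum.group F) ⧸ PG T F K) := {q | ∃ v ∈ UG T F J, q = ↑(v * g * nz)}
    have hx : (↑(g * nz) : ↥(T.datum.group F) ⧸ PG T F K) ∈ S :=
      ⟨1, one_mem _, by rw [one_mul]⟩
    have hsolv : Group.IsSolvable ↥(Subgroup.zpowers s) :=
      isSolvable_of_comm fun a b => Subtype.ext (by
        obtain ⟨i, hi⟩ := a.2
        obtain ⟨j, hj⟩ := b.2
        simp only [Subgroup.coe_mul, ← hi, ← hj]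
        exact (Commute.zpow_zpow_self s i j).eq)
    have hsA : ∀ a ∈ Subgroup.zpowers s, ∀ y ∈ S, a • y ∈ S := by
      rintro a ha _ ⟨v, hv, rfl⟩
      have ha' : a ∈ MulAction.stabilizer ↥(T.datum.group F)
          (↑g : ↥(T.datum.group F) ⧸ PG T F K') := Subgroup.zpowers_le.mpr hfix ha
      have ht : g⁻¹ * a * g ∈ PG T F K' := by
        rw [MulAction.mem_stabilizer_iff, MulAction.Quotient.smul_coe, smul_eq_mul, eq_comm,
          QuotientGroup.eq] at ha'
        rwa [mul_assoc]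
      obtain ⟨v', hv', l, -, hl', e⟩ := parabolic_split hT hC hS hK ht
      refine ⟨(a * v * a⁻¹) * (g * v' * g⁻¹),
        mul_mem (UG_normal hT hC hS (hA ha) hv) (UG_normal hT hC hS hg hv'), ?_⟩
      rw [MulAction.Quotient.smul_coe, smul_eq_mul,
        show a * (v * g * nz) = ((a * v * a⁻¹) * (g * v' * g⁻¹) * g) * l * nz by
          rw [show (a * v * a⁻¹) * (g * v' * g⁻¹) * g * l * nz =
            a * v * a⁻¹ * g * (v' * l) * nz by group, ← e]
          group]
      exact hstab l hl' _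
    have hsK : ∀ k ∈ UG T F J, ∀ y ∈ S, k • y ∈ S := by
      rintro k hk _ ⟨v, hv, rfl⟩
      refine ⟨k * v, mul_mem hk hv, ?_⟩
      rw [MulAction.Quotient.smul_coe, smul_eq_mul]
      simp only [mul_assoc]
    have htrans : ∀ y ∈ S, ∃ k ∈ UG T F J,
        k • (↑(g * nz) : ↥(T.datum.group F) ⧸ PG T F K) = y := by
      rintro _ ⟨v, hv, rfl⟩
      exact ⟨v, hv, by rw [MulAction.Quotient.smul_coe, smul_eq_mul, mul_assoc]⟩
    obtain ⟨_, ⟨v, hv, rfl⟩, hy⟩ :=
      CfsgLib.Coprime.exists_fixed_mem hnorm hcop (Or.inl hsolv) hx hsA hsK htrans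
    refine ⟨v * g, mul_mem (UG_le_parabolic hT hC hS J hv) hg, ?_,
      hy s (Subgroup.mem_zpowers s)⟩
    rw [eq_comm, QuotientGroup.eq]
    have h1 := UG_normal hT hC hS (inv_mem hg) (inv_mem hv)
    rw [inv_inv] at h1
    rw [show (v * g)⁻¹ * g = g⁻¹ * v⁻¹ * g by group]
    exact UG_le_parabolic hT hC hS K' h1
  choose base hbase hbase1 hbase2 using hfib
  let f : {v : ↥(T.datum.group F) // v ∈ UG T F J ∧ v * s = s * v} ×
      {q : ↥(T.datum.group F) ⧸ PG T F K' // (∃ h ∈ PG T F J, q = ↑h) ∧ s • q = q} →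
      {q : ↥(T.datum.group F) ⧸ PG T F K //
        (∃ h ∈ PG T F J, q = ↑(h * nz)) ∧ s • q = q} := fun vp =>
    ⟨↑(vp.1.1 * base vp.2 * nz),
      ⟨vp.1.1 * base vp.2, mul_mem (UG_le_parabolic hT hC hS J vp.1.2.1) (hbase vp.2), rfl⟩, by
      have h2 := hbase2 vp.2
      rw [mul_assoc]
      rw [MulAction.Quotient.smul_coe, smul_eq_mul] at h2 ⊢
      rw [QuotientGroup.eq] at h2 ⊢
      rwa [show (s * (vp.1.1 * (base vp.2 * nz)))⁻¹ * (vp.1.1 * (base vp.2 * nz)) =
        (s * (base vp.2 * nz))⁻¹ * (base vp.2 * nz) by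
          rw [← mul_assoc s, ← vp.1.2.2, mul_assoc]; group]⟩
  rw [orbFix, uCent, fixJ, ← Nat.card_prod]
  refine (Nat.card_eq_of_bijective f ⟨?_, ?_⟩).symm
  · rintro ⟨⟨v, hv, hvs⟩, pt⟩ ⟨⟨v', hv', hvs'⟩, pt'⟩ he
    have h1 := QuotientGroup.eq.mp (congrArg Subtype.val he)
    have hg1 : (v * base pt)⁻¹ * (v' * base pt') ∈ PG T F J :=
      mul_mem (inv_mem (mul_mem (UG_le_parabolic hT hC hS J hv) (hbase pt)))
        (mul_mem (UG_le_parabolic hT hC hS J hv') (hbase pt'))
    rw [show (v * base pt * nz)⁻¹ * (v' * base pt' * nz) =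
      nz⁻¹ * ((v * base pt)⁻¹ * (v' * base pt')) * nz by group] at h1
    have h2 := stab_sub hT hC hS hg1 h1
    have hpt : pt = pt' := by
      refine Subtype.ext ?_
      rw [hbase1 pt, hbase1 pt', QuotientGroup.eq]
      have h3 := UG_normal hT hC hS (inv_mem (hbase pt)) hv
      have h4 := UG_normal hT hC hS (inv_mem (hbase pt')) (inv_mem hv')
      rw [inv_inv] at h3 h4
      have := mul_mem (mul_mem (UG_le_parabolic hT hC hS K' h3) h2)
        (UG_le_parabolic hT hC hS K' h4)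
      rwa [show (base pt)⁻¹ * v * base pt * ((v * base pt)⁻¹ * (v' * base pt')) *
        ((base pt')⁻¹ * v'⁻¹ * base pt') = (base pt)⁻¹ * base pt' by group] at this
    subst hpt
    have h5 := UG_normal hT hC hS (inv_mem (hbase pt)) (mul_mem (inv_mem hv) hv')
    rw [inv_inv] at h5
    have h7 : (v * base pt)⁻¹ * (v' * base pt) = (base pt)⁻¹ * (v⁻¹ * v') * base pt := by group
    rw [h7] at h1
    have h6 := radical_free hT hC hS h5 (parabolicIn_mono hT (preJ_mono hT hK) h1)
    have hvv : v = v' := by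
      rw [mul_assoc, inv_mul_eq_one, eq_comm, mul_eq_right, inv_mul_eq_one] at h6
      exact h6
    subst hvv
    rfl
  · rintro ⟨_, ⟨g, hg, rfl⟩, hfix⟩
    have hpt : s • (↑g : ↥(T.datum.group F) ⧸ PG T F K') = ↑g := by
      rw [MulAction.Quotient.smul_coe, smul_eq_mul, QuotientGroup.eq] at hfix ⊢
      rw [show (s * (g * nz))⁻¹ * (g * nz) = nz⁻¹ * ((s * g)⁻¹ * g) * nz by group] at hfix
      exact stab_sub hT hC hS (mul_mem (inv_mem (mul_mem hs hg)) hg) hfix
    let pt : {q : ↥(T.datum.group F) ⧸ PG T F K' // (∃ h ∈ PG T F J, q = ↑h) ∧ s • q = q} :=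
      ⟨↑g, ⟨g, hg, rfl⟩, hpt⟩
    set h := base pt with hh
    have e1 : (↑g : ↥(T.datum.group F) ⧸ PG T F K') = ↑h := hbase1 pt
    obtain ⟨v, hv, l, hl, hl', e⟩ := parabolic_split hT hC hS hK (QuotientGroup.eq.mp e1.symm)
    set w := h * v * h⁻¹ with hw
    have hwU : w ∈ UG T F J := UG_normal hT hC hS (hbase pt) hv
    have hq : (↑(g * nz) : ↥(T.datum.group F) ⧸ PG T F K) = ↑(w * h * nz) := by
      have hg' : g = h * (v * l) := by rw [← e, mul_inv_cancel_left]
      rw [hg', show h * (v * l) * nz = w * h * l * nz by rw [hw]; group]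
      exact hstab l hl' _
    have hws : w * s = s * w := by
      have h2 := hbase2 pt
      rw [← hh] at h2
      have hfix' : s • (↑(w * h * nz) : ↥(T.datum.group F) ⧸ PG T F K) = ↑(w * h * nz) := by
        rw [← hq]; exact hfix
      have key : w⁻¹ * (s * w * s⁻¹) ∈ UG T F J :=
        mul_mem (inv_mem hwU) (UG_normal hT hC hS hs hwU)
      have h3 : (↑((w⁻¹ * (s * w * s⁻¹)) * h * nz) : ↥(T.datum.group F) ⧸ PG T F K) = ↑(h * nz) := by
        have hcoe : ∀ a b : ↥(T.datum.group F),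
            a • (↑b : ↥(T.datum.group F) ⧸ PG T F K) = ↑(a * b) := fun a b => rfl
        calc (↑((w⁻¹ * (s * w * s⁻¹)) * h * nz) : ↥(T.datum.group F) ⧸ PG T F K)
            = w⁻¹ • s • w • s⁻¹ • ↑(h * nz) := by
              rw [hcoe, hcoe, hcoe, hcoe]; congr 1; group
          _ = w⁻¹ • s • w • ↑(h * nz) := by rw [inv_smul_eq_iff.mpr h2.symm]
          _ = w⁻¹ • s • ↑(w * h * nz) := by rw [hcoe w]; simp only [mul_assoc]
          _ = w⁻¹ • ↑(w * h * nz) := by rw [hfix']
          _ = ↑(h * nz) := by rw [hcoe]; congr 1; group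
      have h9 := QuotientGroup.eq.mp h3.symm
      rw [show (h * nz)⁻¹ * (w⁻¹ * (s * w * s⁻¹) * h * nz) =
        nz⁻¹ * (h⁻¹ * (w⁻¹ * (s * w * s⁻¹)) * h) * nz by group] at h9
      have h10 := UG_normal hT hC hS (inv_mem (hbase pt)) key
      rw [inv_inv] at h10
      have h11 := radical_free hT hC hS h10 (parabolicIn_mono hT (preJ_mono hT hK) h9)
      rw [mul_assoc, inv_mul_eq_one, eq_comm, mul_eq_right, inv_mul_eq_one] at h11
      rw [eq_mul_inv_iff_mul_eq] at h11
      exact h11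
    exact ⟨(⟨w, hwU, hws⟩, pt), Subtype.ext hq.symm⟩

/-- The alternating sum at a semisimple element of a parabolic subgroup. -/
theorem StJ_semisimple [Fintype F] (p : ℕ) [Fact p.Prime] [CharP F p] {J : Finset ℕ}
    (hJ : J ⊆ Finset.range T.rank) {s : ↥(T.datum.group F)} (hs : s ∈ PG T F J)
    (hsp : ¬ p ∣ orderOf s) :
    StJ T F (Finset.range T.rank) s = (uCent T F J s : ℤ) * StJ T F J s := by
  classical
  set R := Finset.range T.rank with hR
  set D := Finset.univ.filter (fun x => x ∈ T.WP hT ∧ PosOn T hT J x⁻¹) with hD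
  have h1 : StJ T F R s = ∑ x ∈ D, ∑ K ∈ R.powerset,
      if PosOn T hT K x then (-1 : ℤ) ^ K.card * (orbFix hT F J K x s : ℤ) else 0 := by
    rw [StJ, Finset.sum_comm]
    refine Finset.sum_congr rfl fun K _ => ?_
    rw [hR, fixJ_orbits hT hC (J := J) s, Nat.cast_sum, Finset.mul_sum, ← Finset.sum_filter,
      hD, Finset.filter_filter]
    exact Finset.sum_congr (Finset.filter_congr fun x _ => by tauto) fun _ _ => rfl
  rw [h1, Finset.sum_eq_single (zJ hT J)]
  · rw [StJ, Finset.mul_sum, ← Finset.sum_filter]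
    have himg : ∀ K ∈ R.powerset.filter (fun K => PosOn T hT K (zJ hT J)),
        preJ hT J (J.filter fun j => ∃ k ∈ K, Rel hT J k j) = K := by
      intro K hK
      obtain ⟨hKR, hKp⟩ := Finset.mem_filter.mp hK
      ext k
      rw [mem_preJ hT]
      constructor
      · rintro ⟨-, j, hj, hkj⟩
        obtain ⟨-, k', hk', hkj'⟩ := Finset.mem_filter.mp hj
        rwa [Rel.inj_left hT hkj hkj']
      · intro hk
        have hkr := Finset.mem_range.mp (Finset.mem_powerset.mp hKR hk)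
        obtain ⟨j, hj, hkj⟩ := rel_of_pos hT (k := ⟨k, hkr⟩) (hKp ⟨k, hkr⟩ hk)
        exact ⟨hkr, j, Finset.mem_filter.mpr ⟨hj, k, hk, hkj⟩, hkj⟩
    refine Finset.sum_bij' (fun K _ => J.filter fun j => ∃ k ∈ K, Rel hT J k j)
      (fun K' _ => preJ hT J K') ?_ ?_ himg ?_ ?_
    · exact fun K _ => Finset.mem_powerset.mpr (Finset.filter_subset _ _)
    · intro K' _
      refine Finset.mem_filter.mpr ⟨Finset.mem_powerset.mpr fun k hk => ?_, preJ_posOn hT J K'⟩
      exact Finset.mem_range.mpr ((mem_preJ hT).mp hk).1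
    · intro K' hK'
      ext j
      rw [Finset.mem_filter]
      constructor
      · rintro ⟨-, k, hk, hkj⟩
        obtain ⟨-, j', hj', hkj'⟩ := (mem_preJ hT).mp hk
        rwa [Rel.inj_right hT hkj hkj']
      · intro hj
        have hjJ := Finset.mem_powerset.mp hK' hj
        obtain ⟨k, hk⟩ := exists_rel hT (j := ⟨j, Finset.mem_range.mp (hJ hjJ)⟩) hjJ
        exact ⟨hjJ, k, (mem_preJ hT).mpr ⟨hk.1, j, hj, hk⟩, hk⟩
    · intro K hK
      have hcard : (J.filter fun j => ∃ k ∈ K, Rel hT J k j).card = K.card := by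
        conv_rhs => rw [← himg K hK]
        set K' := J.filter fun j => ∃ k ∈ K, Rel hT J k j
        refine Finset.card_bij (fun j hj => (Finset.mem_filter.mp hj).2.choose) ?_ ?_ ?_
        · intro j hj
          have hspec := (Finset.mem_filter.mp hj).2.choose_spec
          exact (mem_preJ hT).mpr ⟨hspec.2.1, j, hj, hspec.2⟩
        · intro a ha b hb hab
          have h2 := (Finset.mem_filter.mp ha).2.choose_spec.2
          rw [hab] at h2
          exact Rel.inj_right hT h2 (Finset.mem_filter.mp hb).2.choose_spec.2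
        · intro k hk
          obtain ⟨-, j, hj, hkj⟩ := (mem_preJ hT).mp hk
          exact ⟨j, hj, Rel.inj_left hT (Finset.mem_filter.mp hj).2.choose_spec.2 hkj⟩
      conv_lhs => rw [← himg K hK]
      rw [orbit_fibre hT hC hS p (Finset.filter_subset _ _) hs hsp, himg K hK, hcard, Nat.cast_mul]
      ring
  · intro x hxD hne
    obtain ⟨-, hx, hxJ⟩ := Finset.mem_filter.mp hxD
    obtain ⟨k, hk, hkS⟩ : ∃ k : Fin T.rank, T.half ≤ (x (T.simpF hT k)).val ∧
        ¬ InS T J (x (T.simpF hT k)) := by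
      by_contra hno
      push Not at hno
      exact hne (eq_zJ hT hx hxJ hno)
    have hins : R = insert k.val (R.erase k.val) :=
      (Finset.insert_erase (Finset.mem_range.mpr k.2)).symm
    rw [hins, Finset.sum_powerset_insert (Finset.notMem_erase _ _), ← Finset.sum_add_distrib]
    refine Finset.sum_eq_zero fun K hK => ?_
    have hkK : k.val ∉ K := fun h => Finset.notMem_erase _ _ (Finset.mem_powerset.mp hK h)
    by_cases hxK : PosOn T hT K x
    · have hxI : PosOn T hT (insert k.val K) x := by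
        intro i hi
        rcases Finset.mem_insert.mp hi with h | h
        · rwa [Fin.ext h]
        · exact hxK i h
      rw [if_pos hxK, if_pos hxI, Finset.card_insert_of_notMem hkK,
        ← orbFix_insert hT hC hx hxK hxJ k hk hkS hs]
      ring
    · rw [if_neg hxK, if_neg fun h => hxK fun i hi => h i (Finset.mem_insert_of_mem hi), add_zero]
  · intro h
    exact absurd (Finset.mem_filter.mpr ⟨Finset.mem_univ _, zJ_mem hT J, zJ_posOn hT J⟩) h

end CfsgLib.KnownB.Steinberg
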