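import Cfsg.Agent.Lib.KnownB.Steinberg.Alt

/-!
Steinberg's count of the elements of `p`-power order, by the alternating sums over the parabolic
subgroups of a parabolic subgroup.
-/

set_option autoImplicit false

namespace CfsgLib.KnownB.Steinberg

open CfsgLib.Chevalley CfsgLib.Chevalley.Tbl

variable {T : Tbl} {F : Type*} [Field F]

open Classical in
/-- The elements of `p`-power order of a parabolic subgroup. -/
noncomputable def pElts (T : Tbl) (F : Type*) [Field F] [Fintype F] (p : ℕ) (J : Finset ℕ) :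
    Finset ↥(T.datum.group F) :=
  Finset.univ.filter fun g => g ∈ PG T F J ∧ ∃ k : ℕ, orderOf g = p ^ k

variable (hT : T.Valid)
include hT

/-- The counts are invariant under conjugation in the parabolic subgroup. -/
theorem fixJ_conj (J K : Finset ℕ) {h : ↥(T.datum.group F)} (hh : h ∈ PG T F J)
    (g : ↥(T.datum.group F)) : fixJ T F J K (h * g * h⁻¹) = fixJ T F J K g := by
  refine Nat.card_congr (Equiv.subtypeEquiv (MulAction.toPerm h⁻¹) fun q => ?_)
  rw [MulAction.toPerm_apply]
  refine and_congr ⟨?_, ?_⟩ ?_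
  · rintro ⟨x, hx, rfl⟩
    exact ⟨h⁻¹ * x, mul_mem (inv_mem hh) hx, rfl⟩
  · rintro ⟨x, hx, e⟩
    refine ⟨h * x, mul_mem hh hx, ?_⟩
    rw [inv_smul_eq_iff] at e
    rw [e]
    rfl
  · rw [mul_smul, mul_smul, smul_eq_iff_eq_inv_smul]

theorem StJ_conj (J : Finset ℕ) {h : ↥(T.datum.group F)} (hh : h ∈ PG T F J)
    (g : ↥(T.datum.group F)) : StJ T F J (h * g * h⁻¹) = StJ T F J g :=
  Finset.sum_congr rfl fun K _ => by rw [fixJ_conj hT J K hh g]

/-- Double counting of the pairs (element, fixed coset). -/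
theorem sum_fixJ [Fintype F] (p : ℕ) {J K : Finset ℕ} (hKJ : K ⊆ J) :
    ∑ g ∈ pElts T F p J, fixJ T F J K g = fixJ T F J K 1 * (pElts T F p K).card := by
  classical
  have : Fintype (↥(T.datum.group F) ⧸ PG T F K) := Fintype.ofFinite _
  set Q := Finset.univ.filter
    (fun q : ↥(T.datum.group F) ⧸ PG T F K => ∃ h ∈ PG T F J, q = ↑h) with hQ
  have h1 : ∀ g, fixJ T F J K g = ∑ q ∈ Q, if g • q = q then 1 else 0 := by
    intro g
    rw [fixJ, Finset.sum_boole, Nat.cast_id, Nat.card_eq_fintype_card, Fintype.card_subtype, hQ,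
      Finset.filter_filter]
  rw [Finset.sum_congr rfl fun g _ => h1 g, Finset.sum_comm]
  have h2 : ∀ q ∈ Q, (∑ g ∈ pElts T F p J, if g • q = q then 1 else 0) = (pElts T F p K).card := by
    intro q hq
    obtain ⟨x, hx, rfl⟩ := (Finset.mem_filter.mp hq).2
    rw [Finset.sum_boole, Nat.cast_id]
    have hmem : ∀ g : ↥(T.datum.group F), g • (x : ↥(T.datum.group F) ⧸ PG T F K) = ↑x ↔
        x⁻¹ * g * x ∈ PG T F K := fun g => by
      rw [eq_comm, MulAction.Quotient.smul_coe, QuotientGroup.eq, smul_eq_mul, ← mul_assoc]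
    have hord : ∀ g : ↥(T.datum.group F), orderOf (x * g * x⁻¹) = orderOf g := fun g => by
      have := (MulAut.conj x).orderOf_eq g
      simpa using this
    refine Finset.card_bij' (fun g _ => x⁻¹ * g * x) (fun g _ => x * g * x⁻¹) ?_ ?_ ?_ ?_
    · intro g hg
      simp only [pElts, Finset.mem_filter, Finset.mem_univ, true_and] at hg ⊢
      obtain ⟨⟨-, k, hk⟩, hfix⟩ := hg
      refine ⟨(hmem g).mp hfix, k, ?_⟩
      rw [← hord (x⁻¹ * g * x), show x * (x⁻¹ * g * x) * x⁻¹ = g by group, hk]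
    · intro g hg
      simp only [pElts, Finset.mem_filter, Finset.mem_univ, true_and] at hg ⊢
      obtain ⟨hgK, k, hk⟩ := hg
      refine ⟨⟨mul_mem (mul_mem hx (parabolicIn_mono hT hKJ hgK)) (inv_mem hx), k,
        (hord g).trans hk⟩, (hmem _).mpr ?_⟩
      rwa [show x⁻¹ * (x * g * x⁻¹) * x = g by group]
    · intro g _; group
    · intro g _; group
  rw [Finset.sum_congr rfl h2, Finset.sum_const, smul_eq_mul]
  congr 1
  rw [fixJ, Nat.card_eq_fintype_card, Fintype.card_subtype, hQ]
  exact congrArg Finset.card (Finset.filter_congr fun q _ => by simp)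

variable (hC : T.chkComm = true)
include hC

theorem sum_StJ [Fintype F] (hS : T.chkSupp = true) (p : ℕ) [Fact p.Prime] [CharP F p]
    {J : Finset ℕ} (hJ : J ⊆ Finset.range T.rank) :
    ∑ g ∈ pElts T F p J, StJ T F J g = (Fintype.card F : ℤ) ^ T.half := by
  classical
  have hn := parabolic_le_normalizer (F := F) hT hC hS (J : Set ℕ)
  have hval : ∀ g ∈ pElts T F p J, StJ T F J g =
      if (g : GL T.I F) ∈ T.datum.unipotentRadical F J
        then (Fintype.card F : ℤ) ^ T.invN (longJ hT J) else 0 := by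
    intro g hg
    simp only [pElts, Finset.mem_filter, Finset.mem_univ, true_and] at hg
    obtain ⟨h, hh, hu⟩ := exists_conj_pos hT hC p J hg.1 hg.2
    have hB : h * g * h⁻¹ ∈ BG T F := Subgroup.mem_subgroupOf.mpr (Subgroup.mem_sup_left hu)
    have hiff : ((h * g * h⁻¹ : ↥(T.datum.group F)) : GL T.I F) ∈ T.datum.unipotentRadical F J ↔
        (g : GL T.I F) ∈ T.datum.unipotentRadical F J := by
      have := Subgroup.mem_normalizer_iff.mp (hn (Subgroup.mem_subgroupOf.mp hh)) (g : GL T.I F)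
      simpa using this.symm
    rw [← StJ_conj hT J hh g, StJ_borel hT hC hJ hB, Fcell_longJ hT hC hS J hu,
      if_congr hiff rfl rfl]
    split_ifs <;> simp
  rw [Finset.sum_congr rfl hval, ← Finset.sum_filter, Finset.sum_const, nsmul_eq_mul]
  have hcard : ((pElts T F p J).filter fun g : ↥(T.datum.group F) =>
      (g : GL T.I F) ∈ T.datum.unipotentRadical F J).card =
      Nat.card (T.datum.unipotentRadical F J) := by
    have hUG : T.datum.unipotentRadical F J ≤ T.datum.group F :=
      (radical_le_pos hT hC hS J).trans (le_sup_left.trans (borel_le_group hT))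
    rw [← Nat.card_congr (Subgroup.subgroupOfEquivOfLe hUG).toEquiv, Nat.card_eq_fintype_card,
      Fintype.card_subtype]
    congr 1
    ext g
    simp only [pElts, Finset.mem_filter, Finset.mem_univ, true_and, Subgroup.mem_subgroupOf]
    refine ⟨fun h => h.2, fun h => ⟨⟨?_, ?_⟩, h⟩⟩
    · exact pos_le_parabolicIn hT hC J (Subgroup.mem_subgroupOf.mpr (radical_le_pos hT hC hS J h))
    · obtain ⟨k, hk⟩ := (IsPGroup.iff_orderOf.mp (isPGroup_pos (F := F) hT hC p))
        ⟨g, Subgroup.mem_subgroupOf.mpr (radical_le_pos hT hC hS J h)⟩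
      exact ⟨k, by rw [← hk]; simp⟩
  have h2 := congrArg (fun n : ℕ => (n : ℤ)) (card_radical (F := F) hT hC hS J)
  push_cast at h2
  rw [hcard, ← h2, mul_comm]

/-- The same alternating sum for the expected counts. -/
theorem alt_poincare [Fintype F] {J : Finset ℕ} (hJ : J ⊆ Finset.range T.rank) :
    ∑ K ∈ J.powerset, (-1 : ℤ) ^ K.card *
      ((fixJ T F J K 1 : ℤ) * (Fintype.card F : ℤ) ^ T.invN (longJ hT K)) = 1 := by
  classical
  set f : Equiv.Perm (Fin T.n) → ℤ :=
    fun z => (Fintype.card F : ℤ) ^ T.invN (longJ hT J * z) with hf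
  have hJJ : longJ hT J * longJ hT J = 1 := by
    conv_lhs => rw [← longJ_inv hT J]
    rw [longJ_inv hT J]
    conv_lhs => arg 1; rw [← longJ_inv hT J]
    exact inv_mul_cancel _
  have key := alt_sum hT J hJ f
  rw [show f (longJ hT J) = 1 by simp [hf, hJJ, invN_one hT]] at key
  refine Eq.trans (Finset.sum_congr rfl fun K hK => ?_) key
  have hKJ := Finset.mem_powerset.mp hK
  have hJW := longJ_mem hT J
  have hKW := wJ_mono hT hKJ (longJ_mem hT K)
  rw [zsmul_eq_mul, Int.cast_id, fixJ_one hT hC hKJ, Nat.cast_sum, Finset.sum_mul]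
  congr 1
  have hpos : ∀ y ∈ WJ T hT J, NegOn T hT K y → PosOn T hT K (longJ hT J * y) := by
    intro y hy hn i hi
    rw [Equiv.Perm.mul_apply]
    by_contra hge
    have h1 := hn i hi
    have hs : InS T J (y (T.simpF hT i)) := wJ_inS hT hy (inS_simpF hT (hKJ hi))
    have h2 := (longJ_negOn hT J).neg hT (wJ_le hT J hJW) (inS_negF hT hs) (le_negF h1)
    rw [WP_negF hT (wJ_le hT J hJW)] at h2
    exact absurd ((negF_lt_iff hT).mp h2) hge
  refine Finset.sum_bij' (fun x _ => longJ hT J * (x * longJ hT K))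
    (fun z _ => longJ hT J * z * longJ hT K) ?_ ?_ ?_ ?_ ?_
  · intro x hx
    rw [Finset.mem_filter] at hx ⊢
    refine ⟨Finset.mem_univ _, mul_mem hJW (mul_mem hx.2.1 hKW), hpos _ (mul_mem hx.2.1 hKW) ?_⟩
    intro i hi
    rw [Equiv.Perm.mul_apply]
    exact hx.2.2.neg hT (wJ_le hT J hx.2.1) (wJ_inS hT (longJ_mem hT K) (inS_simpF hT hi))
      (longJ_negOn hT K i hi)
  · intro z hz
    rw [Finset.mem_filter] at hz ⊢
    refine ⟨Finset.mem_univ _, mul_mem (mul_mem hJW hz.2.1) hKW, fun i hi => ?_⟩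
    rw [Equiv.Perm.mul_apply, Equiv.Perm.mul_apply]
    have ht := longJ_negOn hT K i hi
    have htK := wJ_inS hT (longJ_mem hT K) (inS_simpF hT hi)
    have h1 := hz.2.2.neg hT (wJ_le hT J hz.2.1) htK ht
    have hzs : InS T J (z (longJ hT K (T.simpF hT i))) :=
      wJ_inS hT hz.2.1 (wJ_inS hT hKW (inS_simpF hT (hKJ hi)))
    have h2 := (longJ_negOn hT J).neg hT (wJ_le hT J hJW) (inS_negF hT hzs) (le_negF h1)
    rw [WP_negF hT (wJ_le hT J hJW)] at h2
    exact (negF_lt_iff hT).mp h2
  · intro x _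
    rw [← mul_assoc (longJ hT J) (longJ hT J), hJJ, one_mul, mul_assoc]
    conv_lhs => arg 2; arg 1; rw [← longJ_inv hT K]
    rw [inv_mul_cancel, mul_one]
  · intro z _
    rw [mul_assoc (longJ hT J * z)]
    conv_lhs => arg 2; arg 2; arg 1; rw [← longJ_inv hT K]
    rw [inv_mul_cancel, mul_one, ← mul_assoc, hJJ, one_mul]
  · intro x hx
    rw [Finset.mem_filter] at hx
    simp only [hf, ← mul_assoc (longJ hT J) (longJ hT J), hJJ, one_mul,
      invN_mulJ hT (wJ_le hT J hx.2.1) hx.2.2 (longJ_mem hT K)]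
    push_cast
    rw [pow_add]

omit hC in
theorem fixJ_self [Finite F] (J : Finset ℕ) : fixJ T F J J 1 = 1 := by
  rw [fixJ, Nat.card_eq_one_iff_unique]
  refine ⟨⟨fun ⟨a, ⟨x, hx, ha⟩, _⟩ ⟨c, ⟨y, hy, hc⟩, _⟩ => Subtype.ext ?_⟩,
    ⟨⟨↑(1 : ↥(T.datum.group F)), ⟨1, one_mem _, rfl⟩, one_smul _ _⟩⟩⟩
  exact (show a = ↑x from ha).trans
    ((QuotientGroup.eq.mpr (mul_mem (inv_mem hx) hy)).trans (show c = ↑y from hc).symm)

theorem card_pElts [Fintype F] (hS : T.chkSupp = true) (p : ℕ) [Fact p.Prime] [CharP F p] :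
    ∀ J : Finset ℕ, J ⊆ Finset.range T.rank →
      ((pElts T F p J).card : ℤ) = (Fintype.card F : ℤ) ^ (T.half + T.invN (longJ hT J)) := by
  intro J
  induction J using Finset.strongInduction with
  | _ J IH =>
    intro hJ
    have h1 : ∑ K ∈ J.powerset, (-1 : ℤ) ^ K.card *
        ((fixJ T F J K 1 : ℤ) * ((pElts T F p K).card : ℤ)) = (Fintype.card F : ℤ) ^ T.half := by
      rw [← sum_StJ hT hC hS p hJ]
      simp only [StJ]
      rw [Finset.sum_comm]
      refine Finset.sum_congr rfl fun K hK => ?_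
      rw [← Finset.mul_sum, ← Nat.cast_sum, sum_fixJ hT p (Finset.mem_powerset.mp hK), Nat.cast_mul]
    have h2 : ∑ K ∈ J.powerset, (-1 : ℤ) ^ K.card *
        ((fixJ T F J K 1 : ℤ) * (Fintype.card F : ℤ) ^ (T.half + T.invN (longJ hT K))) =
        (Fintype.card F : ℤ) ^ T.half := by
      have := congrArg (fun z => (Fintype.card F : ℤ) ^ T.half * z) (alt_poincare (F := F) hT hC hJ)
      simp only [mul_one, Finset.mul_sum] at this
      refine Eq.trans (Finset.sum_congr rfl fun K _ => ?_) this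
      rw [pow_add]
      ring
    rw [← Finset.add_sum_erase _ _ (Finset.mem_powerset_self J)] at h1 h2
    have h3 : ∀ K ∈ J.powerset.erase J, ((pElts T F p K).card : ℤ) =
        (Fintype.card F : ℤ) ^ (T.half + T.invN (longJ hT K)) := by
      intro K hK
      obtain ⟨hne, hsub⟩ := Finset.mem_erase.mp hK
      have hss := Finset.mem_powerset.mp hsub
      exact IH K (Finset.ssubset_iff_subset_ne.mpr ⟨hss, hne⟩) (hss.trans hJ)
    rw [Finset.sum_congr rfl fun K hK => by rw [h3 K hK], ← h2] at h1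
    have h4 := add_right_cancel h1
    simp only [fixJ_self hT J, Nat.cast_one, one_mul] at h4
    exact mul_left_cancel₀ (pow_ne_zero _ (by norm_num)) h4

theorem card_unipotents [Fintype F] (hS : T.chkSupp = true) (p : ℕ) [Fact p.Prime] [CharP F p] :
    Nat.card {g : ↥(T.datum.group F) // ∃ k : ℕ, orderOf g = p ^ k} =
      Fintype.card F ^ (2 * T.half) := by
  classical
  have h := card_pElts (F := F) hT hC hS p (Finset.range T.rank) subset_rfl
  rw [invN_longest hT, ← two_mul] at h
  rw [Nat.card_eq_fintype_card, Fintype.card_subtype]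
  have he : pElts T F p (Finset.range T.rank) =
      Finset.univ.filter fun g : ↥(T.datum.group F) => ∃ k : ℕ, orderOf g = p ^ k := by
    refine Finset.filter_congr fun g _ => ⟨fun h => h.2, fun h => ⟨?_, h⟩⟩
    rw [parabolicIn_range hT hC]
    trivial
  rw [← he]
  exact_mod_cast h

end CfsgLib.KnownB.Steinberg
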