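import Cfsg.Agent.Lib.KnownB.Steinberg.Orbits
import Cfsg.Agent.Lib.KnownB.Steinberg.Unipotent
import Cfsg.Agent.Lib.CharDeep.GenChar
import Cfsg.Agent.Lib.CharDeep.PermChar

/-!
The alternating sum of the permutation characters on parabolic cosets is irreducible.
-/

set_option autoImplicit false

namespace CfsgLib.KnownB.Steinberg

open CfsgLib.Chevalley CfsgLib.Chevalley.Tbl
open scoped ComplexConjugate

theorem fixedPointCharacter_isCharacter {G : Type*} [Group G] [Finite G] (H : Subgroup G) :
    Cfsg.IsCharacter G (Cfsg.fixedPointCharacter H) := by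
  classical
  have : Fintype G := Fintype.ofFinite _
  have h : Cfsg.fixedPointCharacter H = Cfsg.indFun H (fun _ => 1) := funext fun g => by
    rw [CfsgLib.CharDeep.PermChar.indFun_one_eq]
    rfl
  rw [h]
  exact CfsgLib.Char.IsCharacter.indFun H (CfsgLib.Char.isCharacter_one (G := H))

theorem steinberg_generalized (T : Tbl) (F : Type*) [Field F] [Finite F] :
    Cfsg.IsGeneralizedCharacter ↥(T.datum.group F) (T.datum.steinbergCharacter F) := by
  classical
  refine ⟨∑ J ∈ (Finset.range T.datum.rank).powerset.filter (fun J => Even J.card),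
      Cfsg.fixedPointCharacter (T.datum.parabolicIn F J),
    ∑ J ∈ (Finset.range T.datum.rank).powerset.filter (fun J => ¬ Even J.card),
      Cfsg.fixedPointCharacter (T.datum.parabolicIn F J),
    CfsgLib.Char.isCharacter_sum _ _ fun J _ => fixedPointCharacter_isCharacter _,
    CfsgLib.Char.isCharacter_sum _ _ fun J _ => fixedPointCharacter_isCharacter _, funext fun g => ?_⟩
  rw [Cfsg.Lie.ChevalleyDatum.steinbergCharacter, Pi.sub_apply, Finset.sum_apply, Finset.sum_apply,
    ← Finset.sum_filter_add_sum_filter_not _ (fun J : Finset ℕ => Even J.card), sub_eq_add_neg,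
    ← Finset.sum_neg_distrib]
  congr 1
  · refine Finset.sum_congr rfl fun J hJ => ?_
    rw [(Finset.mem_filter.mp hJ).2.neg_one_pow, one_mul]
  · refine Finset.sum_congr rfl fun J hJ => ?_
    rw [(Nat.not_even_iff_odd.mp (Finset.mem_filter.mp hJ).2).neg_one_pow, neg_one_mul]

variable {T : Tbl} {F : Type*} [Field F] (hT : T.Valid) (hC : T.chkComm = true)
include hT hC

open Classical in
theorem sum_sq [Fintype F] :
    ∑ g : ↥(T.datum.group F), StJ T F (Finset.range T.rank) g * StJ T F (Finset.range T.rank) g =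
      (Nat.card ↥(T.datum.group F) : ℤ) := by
  set R := Finset.range T.rank with hR
  have hmemR : ∀ h : ↥(T.datum.group F), h ∈ PG T F R := fun h => by
    rw [hR, parabolicIn_range hT hC]; trivial
  have hJ : ∀ J ∈ R.powerset,
      ∑ g : ↥(T.datum.group F), StJ T F R g * (fixJ T F R J g : ℤ) =
        (PG T F J).index * (if J = ∅ then (Nat.card (PG T F J) : ℤ) else 0) := by
    intro J hJ
    rw [← sum_parabolic_StJ hT hC (Finset.mem_powerset.mp hJ)]
    have : Fintype (↥(T.datum.group F) ⧸ PG T F J) := Fintype.ofFinite _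
    have h1 : ∀ g : ↥(T.datum.group F), (fixJ T F R J g : ℤ) =
        ∑ q : ↥(T.datum.group F) ⧸ PG T F J, if g • q = q then 1 else 0 := by
      intro g
      rw [Finset.sum_boole, fixJ, Nat.card_eq_fintype_card, Fintype.card_subtype]
      congr 2
      refine Finset.filter_congr fun q _ => ?_
      obtain ⟨h, rfl⟩ := QuotientGroup.mk_surjective q
      exact ⟨fun hq => hq.2, fun hq => ⟨⟨h, hmemR h, rfl⟩, hq⟩⟩
    simp only [h1, Finset.mul_sum, mul_ite, mul_one, mul_zero]
    rw [Finset.sum_comm]
    have h2 : ∀ q : ↥(T.datum.group F) ⧸ PG T F J,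
        (∑ g : ↥(T.datum.group F), if g • q = q then StJ T F R g else 0) =
          ∑ g ∈ Finset.univ.filter (fun g => g ∈ PG T F J), StJ T F R g := by
      intro q
      obtain ⟨x, rfl⟩ := QuotientGroup.mk_surjective q
      rw [Finset.sum_filter, ← Equiv.sum_comp (MulAut.conj x).toEquiv]
      refine Finset.sum_congr rfl fun g _ => ?_
      change (if (x * g * x⁻¹) • (x : ↥(T.datum.group F) ⧸ PG T F J) = ↑x
        then StJ T F R (x * g * x⁻¹) else 0) = _
      rw [StJ_conj hT R (hmemR x)]
      refine if_congr ?_ rfl rfl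
      rw [eq_comm, MulAction.Quotient.smul_coe, QuotientGroup.eq, smul_eq_mul,
        show x⁻¹ * (x * g * x⁻¹ * x) = g by group]
    rw [Finset.sum_congr rfl fun q _ => h2 q, Finset.sum_const, Finset.card_univ, nsmul_eq_mul,
      ← Nat.card_eq_fintype_card, Finset.mul_sum]
    rfl
  have h0 : ∀ g : ↥(T.datum.group F), StJ T F R g * StJ T F R g =
      ∑ J ∈ R.powerset, (-1 : ℤ) ^ J.card * (StJ T F R g * (fixJ T F R J g : ℤ)) := by
    intro g
    conv_lhs => arg 2; rw [StJ]
    rw [Finset.mul_sum]
    exact Finset.sum_congr rfl fun J _ => mul_left_comm _ _ _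
  rw [Finset.sum_congr rfl fun g _ => h0 g, Finset.sum_comm,
    Finset.sum_congr rfl fun J hJ' => by rw [← Finset.mul_sum, hJ J hJ'],
    Finset.sum_eq_single ∅]
  · rw [if_pos rfl, Finset.card_empty, pow_zero, one_mul, ← Nat.cast_mul,
      mul_comm, Subgroup.card_mul_index]
  · intro J _ hne
    rw [if_neg hne, mul_zero, mul_zero]
  · simp

theorem steinberg_isIrr [Fintype F] :
    Cfsg.IsIrrCharacter ↥(T.datum.group F) (T.datum.steinbergCharacter F) := by
  classical
  refine CfsgLib.CharDeep.GenChar.isIrrCharacter_of_norm_one (steinberg_generalized T F) ?_ ?_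
  · have hc : ∀ g : ↥(T.datum.group F), T.datum.steinbergCharacter F g *
        conj (T.datum.steinbergCharacter F g) =
        ((StJ T F (Finset.range T.rank) g * StJ T F (Finset.range T.rank) g : ℤ) : ℂ) := fun g => by
      rw [steinberg_eq_StJ hT hC, map_intCast, Int.cast_mul]
    rw [Cfsg.classInner, Finset.sum_congr rfl fun g _ => hc g, ← Int.cast_sum, sum_sq hT hC,
      Int.cast_natCast]
    exact inv_mul_cancel₀ (Nat.cast_ne_zero.mpr Nat.card_pos.ne')
  · rw [steinberg_one hT hC, ← Nat.cast_pow, Complex.natCast_re]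
    exact_mod_cast pow_pos Fintype.card_pos _

end CfsgLib.KnownB.Steinberg
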