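import Cfsg.Agent.Lib.KnownB.Steinberg.Alt
import Cfsg.Agent.Lib.Chevalley.Coxeter
import Mathlib.GroupTheory.GroupAction.Quotient

/-!
Double cosets of parabolic subgroups and minimal double coset representatives.
-/

set_option autoImplicit false

namespace CfsgLib.KnownB.Steinberg

open CfsgLib.Chevalley CfsgLib.Chevalley.Tbl

variable {T : Tbl} {F : Type*} [Field F] (hT : T.Valid)
include hT

omit hT in
theorem invN_mul_le (a b : Equiv.Perm (Fin T.n)) : T.invN (a * b) ≤ T.invN a + T.invN b := by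
  classical
  set A := Finset.univ.filter fun s : Fin T.n => T.half ≤ s.val ∧ ((a * b) s).val < T.half
  rw [invN, invN, invN, ← Finset.card_filter_add_card_filter_not
    (p := fun s => T.half ≤ (b s).val) (s := A)]
  refine add_le_add ?_ ?_
  · refine Finset.card_le_card_of_injOn b (fun s hs => ?_) b.injective.injOn
    have h1 := Finset.mem_filter.mp (Finset.mem_coe.mp hs)
    have h2 := (Finset.mem_filter.mp h1.1).2.2
    rw [Equiv.Perm.mul_apply] at h2
    exact Finset.mem_coe.mpr (Finset.mem_filter.mpr ⟨Finset.mem_univ _, h1.2, h2⟩)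
  · refine Finset.card_le_card fun s hs => ?_
    simp only [A, Finset.mem_filter, Finset.mem_univ, true_and] at hs ⊢
    exact ⟨hs.1.1, not_le.mp hs.2⟩

theorem invN_pw_le (l : List (Fin T.rank)) : T.invN (T.pw hT l) ≤ l.length := by
  induction l with
  | nil => rw [pw_nil, invN_one hT]; exact le_rfl
  | cons i l ih =>
    rw [pw_cons]
    refine (invN_mul_le _ _).trans ?_
    rw [invN_refP hT, List.length_cons]
    omega

theorem exists_pw_reduced {w : Equiv.Perm (Fin T.n)} (hw : w ∈ T.WP hT) :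
    ∃ l : List (Fin T.rank), T.pw hT l = w ∧ l.length = T.invN w := by
  suffices h : ∀ m, ∀ w ∈ T.WP hT, T.invN w = m →
      ∃ l : List (Fin T.rank), T.pw hT l = w ∧ l.length = T.invN w from h _ w hw rfl
  intro m
  induction m using Nat.strong_induction_on with
  | _ m IH =>
    intro w hw hm
    by_cases hone : ∀ i : Fin T.rank, T.half ≤ (w (T.simpF hT i)).val
    · have := eq_one_of_pos hT hw hone
      subst this
      exact ⟨[], pw_nil hT, by rw [invN_one hT]; rfl⟩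
    push Not at hone
    obtain ⟨i, hi⟩ := hone
    have h1 := invN_mul_refP_neg hT hw i hi
    obtain ⟨l, hl, hlen⟩ := IH (T.invN (w * T.refP hT i)) (by omega) _
      (mul_mem hw (Subgroup.subset_closure ⟨i, rfl⟩)) rfl
    refine ⟨l ++ [i], ?_, ?_⟩
    · rw [pw_append, hl, show T.pw hT [i] = T.refP hT i by simp [pw], mul_assoc, refP_mul_self, mul_one]
    · rw [List.length_append, hlen, h1]
      rfl

/-- Deodhar's lemma. -/
theorem deodhar_step {K : Finset ℕ} {z : Equiv.Perm (Fin T.n)} (hz : z ∈ T.WP hT)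
    (hp : PosOn T hT K z) (i : Fin T.rank) :
    (PosOn T hT K (T.refP hT i * z)) ∨ (z⁻¹ * (T.refP hT i * z) ∈ WJ T hT K) := by
  by_cases hpos : PosOn T hT K (T.refP hT i * z)
  · exact Or.inl hpos
  right
  simp only [PosOn] at hpos
  push Not at hpos
  obtain ⟨k, hk, hlt⟩ := hpos
  obtain ⟨l, hl, hlen⟩ := exists_pw_reduced hT hz
  have hlt' : (T.pw hT (i :: l) (T.simpF hT k)).val < T.half := by rw [pw_cons, hl]; exact hlt
  obtain ⟨l1, j, l2, he, e⟩ := deletion_pw hT k (i :: l) hlt'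
  rw [pw_cons, hl] at e
  cases l1 with
  | nil =>
    rw [List.nil_append, List.cons.injEq] at he
    rw [List.nil_append, ← he.2, hl] at e
    have : z⁻¹ * (T.refP hT i * z) = T.refP hT k := by
      rw [inv_mul_eq_iff_eq_mul]
      conv_rhs => rw [← e]
      rw [mul_assoc (T.refP hT i * z), refP_mul_self, mul_one]
    rw [this]
    exact refP_mem_wJ hT hk
  | cons a l1 =>
    exfalso
    rw [List.cons_append, List.cons.injEq] at he
    rw [List.cons_append, pw_cons, ← he.1, mul_assoc, mul_left_cancel_iff] at e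
    have h1 := invN_mul_refP hT hz k (hp k hk)
    have h2 := invN_pw_le hT (l1 ++ l2)
    rw [← e, h1] at h2
    have h3 := congrArg List.length he.2
    simp only [List.length_append, List.length_cons] at h3 h2
    omega

theorem deodhar {J K : Finset ℕ} {u : Equiv.Perm (Fin T.n)} (hu : u ∈ WJ T hT J)
    {x : Equiv.Perm (Fin T.n)} (hx : x ∈ T.WP hT) (hp : PosOn T hT K x) :
    ∃ u' ∈ WJ T hT J, PosOn T hT K (u' * x) ∧ (u' * x)⁻¹ * (u * x) ∈ WJ T hT K := by
  have step : ∀ (i : Fin T.rank), i.val ∈ J → ∀ y,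
      (∃ u' ∈ WJ T hT J, PosOn T hT K (u' * x) ∧ (u' * x)⁻¹ * (y * x) ∈ WJ T hT K) →
      ∃ u' ∈ WJ T hT J, PosOn T hT K (u' * x) ∧ (u' * x)⁻¹ * (T.refP hT i * y * x) ∈ WJ T hT K := by
    rintro i hi y ⟨u', hu', hp', hm⟩
    rcases deodhar_step hT (mul_mem (wJ_le hT J hu') hx) hp' i with h | h
    · refine ⟨T.refP hT i * u', mul_mem (refP_mem_wJ hT hi) hu', by rwa [mul_assoc], ?_⟩
      rwa [show (T.refP hT i * u' * x)⁻¹ * (T.refP hT i * y * x) = (u' * x)⁻¹ * (y * x) by group]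
    · refine ⟨u', hu', hp', ?_⟩
      have := mul_mem h hm
      rwa [show (u' * x)⁻¹ * (T.refP hT i * (u' * x)) * ((u' * x)⁻¹ * (y * x)) =
        (u' * x)⁻¹ * (T.refP hT i * y * x) by group] at this
  induction hu using Subgroup.closure_induction_left with
  | one => exact ⟨1, one_mem _, by rwa [one_mul], by rw [inv_mul_cancel]; exact one_mem _⟩
  | mul_left a ha y _ hy =>
    obtain ⟨i, hi, rfl⟩ := ha
    exact step i hi y hy
  | inv_mul_cancel a ha y _ hy =>
    obtain ⟨i, hi, rfl⟩ := ha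
    rw [refP_inv hT i]
    exact step i hi y hy

theorem invN_left {J : Finset ℕ} {u x : Equiv.Perm (Fin T.n)} (hu : u ∈ WJ T hT J)
    (hx : x ∈ T.WP hT) (hp : PosOn T hT J x⁻¹) : T.invN (u * x) = T.invN u + T.invN x := by
  rw [← invN_inv hT (mul_mem (wJ_le hT J hu) hx), _root_.mul_inv_rev,
    invN_mulJ hT (inv_mem hx) hp (inv_mem hu), invN_inv hT hx, invN_inv hT (wJ_le hT J hu)]
  ring

theorem both_unique {J K : Finset ℕ} {x y u : Equiv.Perm (Fin T.n)} (hx : x ∈ T.WP hT)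
    (hy : y ∈ T.WP hT) (hxK : PosOn T hT K x) (hxJ : PosOn T hT J x⁻¹) (hyK : PosOn T hT K y)
    (hyJ : PosOn T hT J y⁻¹) (hu : u ∈ WJ T hT J) (hm : y⁻¹ * (u * x) ∈ WJ T hT K) : x = y := by
  have half : ∀ x y u : Equiv.Perm (Fin T.n), x ∈ T.WP hT → y ∈ T.WP hT → PosOn T hT K x →
      PosOn T hT J x⁻¹ → PosOn T hT K y → u ∈ WJ T hT J → y⁻¹ * (u * x) ∈ WJ T hT K →
      ∃ u' ∈ WJ T hT J, y = u' * x ∧ T.invN y = T.invN u' + T.invN x := by
    intro x y u hx hy hxK hxJ hyK hu hm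
    obtain ⟨u', hu', hp', hm'⟩ := deodhar hT hu hx hxK
    have he : y = u' * x := by
      refine rep_unique hT hy (mul_mem (wJ_le hT J hu') hx) hyK hp' ?_
      have := mul_mem hm (inv_mem hm')
      rwa [show y⁻¹ * (u * x) * ((u' * x)⁻¹ * (u * x))⁻¹ = y⁻¹ * (u' * x) by group] at this
    exact ⟨u', hu', he, by rw [he]; exact invN_left hT hu' hx hxJ⟩
  obtain ⟨u1, hu1, e1, l1⟩ := half x y u hx hy hxK hxJ hyK hu hm
  have hm' : x⁻¹ * (u⁻¹ * y) ∈ WJ T hT K := by
    have := inv_mem hm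
    rwa [show (y⁻¹ * (u * x))⁻¹ = x⁻¹ * (u⁻¹ * y) by group] at this
  obtain ⟨u2, -, -, l2⟩ := half y x u⁻¹ hy hx hyK hyJ hxK (inv_mem hu) hm'
  have := eq_one_of_invN hT (wJ_le hT J hu1) (by omega)
  rw [e1, this, one_mul]

variable (hC : T.chkComm = true)
include hC

theorem orbit_unique {J K : Finset ℕ} {x y : Equiv.Perm (Fin T.n)} (hx : x ∈ T.WP hT)
    (hy : y ∈ T.WP hT) (hxK : PosOn T hT K x) (hxJ : PosOn T hT J x⁻¹) (hyK : PosOn T hT K y)
    (hyJ : PosOn T hT J y⁻¹) {h : ↥(T.datum.group F)} (hhP : h ∈ PG T F J)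
    (hh : (↑(h * nG hT F y) : ↥(T.datum.group F) ⧸ PG T F K) = ↑(nG hT F x)) : x = y := by
  obtain ⟨b, hb, n, hn, v, hv, hm, c, hc, e⟩ :=
    parabolic_cell hT hC (Subgroup.mem_subgroupOf.mp hhP)
  obtain ⟨b', hb', c', hc', e'⟩ := absorb (J := J) hT hC (inv_mem hy) hyJ (inv_mem hv)
    (mono_nG (F := F) hT hy).inv (inv_mem (nG_mem hT y)) (inv_mem hn) hm.inv (inv_mem hc)
  set ny := ((nG hT F y : ↥(T.datum.group F)) : GL T.I F) with hny
  have e2 : ((h * nG hT F y : ↥(T.datum.group F)) : GL T.I F) = (b * c'⁻¹) * (n * ny) * b'⁻¹ := by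
    have e3 : n * c * ny = c'⁻¹ * (n * ny) * b'⁻¹ := by
      calc n * c * ny = (ny⁻¹ * c⁻¹ * n⁻¹)⁻¹ := by group
        _ = _ := by rw [e']; group
    rw [Subgroup.coe_mul, e, ← hny]
    calc b * n * c * ny = b * (n * c * ny) := by group
      _ = _ := by rw [e3]; group
  obtain ⟨z, hz, hzK, hzm, a, ha, hza⟩ := coset_of_cell hT K (mul_mem hb (inv_mem hc'))
    (mul_mem hn (nG_mem hT y)) (mul_mem (wJ_le hT J hv) hy) (hm.mul (mono_nG (F := F) hT hy))
    (inv_mem hb') e2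
  rw [hza, ← one_mul (nG hT F x), QuotientGroup.eq] at hh
  obtain ⟨hzx, -⟩ := coset_cell hT hC hz hx hzK hxK ha (one_mem _) hh
  subst hzx
  exact (both_unique hT hy hx hyK hyJ hxK hxJ hv hzm).symm

theorem orbit_exists (J K : Finset ℕ) (g : ↥(T.datum.group F)) :
    ∃ x ∈ T.WP hT, PosOn T hT K x ∧ PosOn T hT J x⁻¹ ∧ ∃ h ∈ PG T F J,
      (↑g : ↥(T.datum.group F) ⧸ PG T F K) = ↑(h * nG hT F x) := by
  obtain ⟨b0, hb0, n, hn, w, hw, hm, u, hu, e⟩ := exists_canonical hT hC g.2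
  obtain ⟨x, hx, hxK, -, a, ha, hga⟩ := coset_of_cell hT K hb0 hn hw hm
    ((rootGen_le fun r hr ⟨_, hp, _⟩ t => pos_le_borel hT hr hp t :
      T.rootGen F (T.negSet w) ≤ T.datum.borelSubgroup F) hu) e
  obtain ⟨z, hz, hzJ, hzv⟩ := exists_rep hT J (inv_mem hx)
  set v := z⁻¹ * x⁻¹ with hv
  have hxe : x = v⁻¹ * z⁻¹ := by rw [hv]; group
  have hz' : PosOn T hT J z⁻¹⁻¹ := by rwa [inv_inv]
  have hzK : PosOn T hT K z⁻¹ := by
    intro k hk
    by_contra hlt
    have h1 := invN_mul_refP_neg hT (inv_mem hz) k (not_le.mp hlt)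
    have h2 := invN_mul_refP hT hx k (hxK k hk)
    have h3 := invN_left hT (inv_mem hzv) (inv_mem hz) hz'
    rw [← hxe] at h3
    have h4 := invN_mul_le v⁻¹ (z⁻¹ * T.refP hT k)
    rw [← mul_assoc, ← hxe] at h4
    omega
  refine ⟨z⁻¹, inv_mem hz, hzK, hz', a * nG hT F x * (nG hT F z⁻¹)⁻¹, ?_, ?_⟩
  · rw [mul_assoc]
    refine mul_mem (borel_le_parabolic J ha) (Subgroup.mem_subgroupOf.mpr ?_)
    simp only [Subgroup.coe_mul, InvMemClass.coe_inv]
    refine mem_parabolic_of_mono hT (mul_mem (nG_mem hT x) (inv_mem (nG_mem hT z⁻¹)))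
      ((mono_nG (F := F) hT hx).mul (mono_nG (F := F) hT (inv_mem hz)).inv) ?_
    rw [inv_inv, show x * z = v⁻¹ by rw [hxe]; group]
    exact inv_mem hzv
  · rw [hga]
    congr 1
    group


open Classical in
/-- The number of orbits of `P_J` on the cosets of `P_K`. -/
theorem card_orbits [Finite F] (J K : Finset ℕ) :
    Nat.card (MulAction.orbitRel.Quotient ↥(PG T F J) (↥(T.datum.group F) ⧸ PG T F K)) =
      (Finset.univ.filter fun x => x ∈ T.WP hT ∧ PosOn T hT K x ∧ PosOn T hT J x⁻¹).card := by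
  set D := Finset.univ.filter fun x => x ∈ T.WP hT ∧ PosOn T hT K x ∧ PosOn T hT J x⁻¹ with hD
  rw [← Fintype.card_coe D, ← Nat.card_eq_fintype_card]
  let f : ↥D → MulAction.orbitRel.Quotient ↥(PG T F J) (↥(T.datum.group F) ⧸ PG T F K) :=
    fun x => Quotient.mk'' (↑(nG hT F (x : Equiv.Perm (Fin T.n))) : ↥(T.datum.group F) ⧸ PG T F K)
  refine (Nat.card_eq_of_bijective f ⟨?_, ?_⟩).symm
  · rintro ⟨x, hxD⟩ ⟨y, hyD⟩ he
    obtain ⟨-, hx, hxK, hxJ⟩ := Finset.mem_filter.mp hxD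
    obtain ⟨-, hy, hyK, hyJ⟩ := Finset.mem_filter.mp hyD
    obtain ⟨h, hh⟩ := MulAction.orbitRel_apply.mp (Quotient.eq''.mp he)
    change (h : ↥(T.datum.group F)) • (↑(nG hT F y) : ↥(T.datum.group F) ⧸ PG T F K) = ↑(nG hT F x) at hh
    rw [MulAction.Quotient.smul_coe, smul_eq_mul] at hh
    exact Subtype.ext (orbit_unique hT hC hx hy hxK hxJ hyK hyJ h.2 hh)
  · intro o
    induction o using Quotient.inductionOn' with
    | h q =>
      obtain ⟨g, rfl⟩ := QuotientGroup.mk_surjective q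
      obtain ⟨x, hx, hxK, hxJ, h, hh, hgx⟩ := orbit_exists hT hC J K g
      refine ⟨⟨x, Finset.mem_filter.mpr ⟨Finset.mem_univ _, hx, hxK, hxJ⟩⟩,
        Quotient.eq''.mpr (MulAction.orbitRel_apply.mpr ?_)⟩
      rw [hgx]
      refine ⟨(⟨h, hh⟩ : ↥(PG T F J))⁻¹, ?_⟩
      change (h⁻¹ : ↥(T.datum.group F)) • (↑(h * nG hT F x) : ↥(T.datum.group F) ⧸ PG T F K) =
        ↑(nG hT F x)
      rw [MulAction.Quotient.smul_coe, smul_eq_mul]
      congr 1
      group

open Classical in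
/-- The sum of the alternating fixed-point counts over a parabolic subgroup. -/
theorem sum_parabolic_StJ [Fintype F] {J : Finset ℕ} (hJ : J ⊆ Finset.range T.rank)
    [DecidablePred (· ∈ PG T F J)] :
    ∑ g ∈ Finset.univ.filter (fun g => g ∈ PG T F J), StJ T F (Finset.range T.rank) g =
      if J = ∅ then (Nat.card (PG T F J) : ℤ) else 0 := by
  classical
  set R := Finset.range T.rank with hR
  simp only [StJ]
  rw [Finset.sum_comm]
  have hone : ∀ K ∈ R.powerset,
      ∑ g ∈ Finset.univ.filter (fun g => g ∈ PG T F J), (-1 : ℤ) ^ K.card * (fixJ T F R K g : ℤ) =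
        (-1 : ℤ) ^ K.card • (∑ x ∈ Finset.univ.filter (fun x => x ∈ WJ T hT R ∧ PosOn T hT K x),
          if PosOn T hT J x⁻¹ then (Nat.card (PG T F J) : ℤ) else 0) := by
    intro K _
    rw [← Finset.mul_sum, zsmul_eq_mul, Int.cast_id, ← Finset.sum_filter, Finset.sum_const,
      nsmul_eq_mul, ← Nat.cast_sum]
    congr 1
    rw [← Nat.cast_mul]
    congr 1
    have hD : ((Finset.univ.filter fun x => x ∈ WJ T hT R ∧ PosOn T hT K x).filter
        fun x => PosOn T hT J x⁻¹).card =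
        (Finset.univ.filter fun x => x ∈ T.WP hT ∧ PosOn T hT K x ∧ PosOn T hT J x⁻¹).card := by
      rw [Finset.filter_filter, wJ_top hT fun i hi => Finset.mem_range.mpr hi]
      simp only [and_assoc]
    have : Fintype (↥(T.datum.group F) ⧸ PG T F K) := Fintype.ofFinite _
    rw [hD, ← card_orbits (F := F) hT hC J K, Nat.card_eq_fintype_card, Nat.card_eq_fintype_card,
      ← MulAction.sum_card_fixedBy_eq_card_orbits_mul_card_group,
      ← Finset.sum_subtype_eq_sum_filter]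
    refine Finset.sum_congr (by ext; simp) fun g _ => ?_
    rw [fixJ, ← Nat.card_eq_fintype_card]
    refine Nat.card_congr (Equiv.subtypeEquivRight fun q => ?_)
    obtain ⟨h, rfl⟩ := QuotientGroup.mk_surjective q
    exact ⟨fun hq => hq.2,
      fun hq => ⟨⟨h, by rw [hR, parabolicIn_range hT hC]; trivial, rfl⟩, hq⟩⟩
  rw [Finset.sum_congr rfl hone, alt_sum hT R subset_rfl]
  refine if_congr ⟨fun h => ?_, fun h i hi => absurd hi (by simp [h])⟩ rfl rfl
  by_contra hne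
  obtain ⟨j, hj⟩ := Finset.nonempty_iff_ne_empty.mpr hne
  have hjr := Finset.mem_range.mp (hJ hj)
  have h1 := h ⟨j, hjr⟩ hj
  rw [longJ_inv hT R] at h1
  exact absurd h1 (not_le.mpr (longJ_negOn hT R ⟨j, hjr⟩ (Finset.mem_range.mpr hjr)))

end CfsgLib.KnownB.Steinberg
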