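import Cfsg.Agent.Lib.KnownB.Steinberg.Unipotent
import Cfsg.Agent.Lib.KnownB.Steinberg.Orbits

/-!
Orbits of a parabolic subgroup on the cosets of parabolic subgroups: stabilizers in terms of
cells, and the orbits that cancel in the alternating sum.
-/

set_option autoImplicit false

namespace CfsgLib.KnownB.Steinberg

open CfsgLib.Chevalley CfsgLib.Chevalley.Tbl

variable {T : Tbl} {F : Type*} [Field F] (hT : T.Valid)
include hT

/-- The number of fixed points of `g` in the orbit of `P_J` through the coset of `x`. -/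
noncomputable def orbFix (F : Type*) [Field F] (J K : Finset ℕ) (x : Equiv.Perm (Fin T.n))
    (g : ↥(T.datum.group F)) : ℕ :=
  Nat.card {q : ↥(T.datum.group F) ⧸ PG T F K //
    (∃ h ∈ PG T F J, q = ↑(h * nG hT F x)) ∧ g • q = q}

theorem mem_parabolic_of_cell {K : Finset ℕ} {g : ↥(T.datum.group F)} {b n c : GL T.I F}
    {u : Equiv.Perm (Fin T.n)} (hb : b ∈ T.datum.borelSubgroup F)
    (hn : n ∈ T.datum.monomialSubgroup F) (hm : T.Mono n u) (hu : u ∈ WJ T hT K)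
    (hc : c ∈ T.datum.borelSubgroup F) (he : (g : GL T.I F) = b * n * c) : g ∈ PG T F K := by
  simp only [Cfsg.Lie.ChevalleyDatum.parabolicIn, Subgroup.mem_subgroupOf, he]
  exact mul_mem (mul_mem (Subgroup.mem_sup_left hb) (mem_parabolic_of_mono hT hn hm hu))
    (Subgroup.mem_sup_left hc)

variable (hC : T.chkComm = true)
include hC

/-- The cells of an element of `P_J` and of its conjugate in `P_M` correspond. -/
theorem stab_cell {J M : Finset ℕ} {x : Equiv.Perm (Fin T.n)} (hx : x ∈ T.WP hT)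
    (hxM : PosOn T hT M x) (hxJ : PosOn T hT J x⁻¹) {g : ↥(T.datum.group F)} (hg : g ∈ PG T F J)
    (hgM : (nG hT F x)⁻¹ * g * nG hT F x ∈ PG T F M) :
    ∃ u ∈ WJ T hT J, ∃ y ∈ WJ T hT M, u * x = x * y ∧
      (∃ b ∈ T.datum.borelSubgroup F, ∃ n ∈ T.datum.monomialSubgroup F, T.Mono n u ∧
        ∃ c ∈ T.datum.borelSubgroup F, (g : GL T.I F) = b * n * c) ∧
      (∃ b ∈ T.datum.borelSubgroup F, ∃ n ∈ T.datum.monomialSubgroup F, T.Mono n y ∧
        ∃ c ∈ T.datum.borelSubgroup F,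
          (((nG hT F x)⁻¹ * g * nG hT F x : ↥(T.datum.group F)) : GL T.I F) = b * n * c) := by
  obtain ⟨b, hb, n, hn, u, hu, hm, c, hc, e⟩ := parabolic_cell hT hC (Subgroup.mem_subgroupOf.mp hg)
  obtain ⟨b2, hb2, n2, hn2, y, hy, hm2, c2, hc2, e2⟩ :=
    parabolic_cell hT hC (Subgroup.mem_subgroupOf.mp hgM)
  refine ⟨u, hu, y, hy, ?_, ⟨b, hb, n, hn, hm, c, hc, e⟩, ⟨b2, hb2, n2, hn2, hm2, c2, hc2, e2⟩⟩
  have hmx := mono_nG (F := F) hT hx
  have hnxN := nG_mem (F := F) hT x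
  set nx := ((nG hT F x : ↥(T.datum.group F)) : GL T.I F) with hnx
  obtain ⟨b', hb', c', hc', e'⟩ := absorb (J := J) hT hC (inv_mem hx) hxJ (inv_mem hu)
    hmx.inv (inv_mem hnxN) (inv_mem hn) hm.inv (inv_mem hc)
  obtain ⟨b3, hb3, c3, hc3, e3⟩ := absorb (J := M) hT hC hx hxM hy hmx hnxN hn2 hm2 hb2
  have l1 : (g : GL T.I F) * nx = (b * c'⁻¹) * (n * nx) * b'⁻¹ := by
    have h3 : n * c * nx = c'⁻¹ * (n * nx) * b'⁻¹ := by
      calc n * c * nx = (nx⁻¹ * c⁻¹ * n⁻¹)⁻¹ := by group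
        _ = _ := by rw [e']; group
    calc (g : GL T.I F) * nx = b * (n * c * nx) := by rw [e]; group
      _ = _ := by rw [h3]; group
  have l2 : (g : GL T.I F) * nx = b3 * (nx * n2) * (c3 * c2) := by
    simp only [Subgroup.coe_mul, InvMemClass.coe_inv, ← hnx] at e2
    calc (g : GL T.I F) * nx = nx * (nx⁻¹ * g * nx) := by group
      _ = (nx * b2 * n2) * c2 := by rw [e2]; group
      _ = _ := by rw [e3]; group
  exact cell_unique hT hC (mul_mem hb (inv_mem hc')) hb3 (inv_mem hb') (mul_mem hc3 hc2)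
    (mul_mem hn hnxN) (mul_mem hnxN hn2) (hm.mul hmx) (hmx.mul hm2)
    (l1.symm.trans l2)

/-- An orbit is unchanged by adding a fundamental root sent outside the roots of `J`. -/
theorem orbFix_insert {J K : Finset ℕ} {x : Equiv.Perm (Fin T.n)} (hx : x ∈ T.WP hT)
    (hxK : PosOn T hT K x) (hxJ : PosOn T hT J x⁻¹) (k : Fin T.rank)
    (hk : T.half ≤ (x (T.simpF hT k)).val) (hkJ : ¬ InS T J (x (T.simpF hT k)))
    {g : ↥(T.datum.group F)} (hg : g ∈ PG T F J) :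
    orbFix hT F J K x g = orbFix hT F J (insert k.val K) x g := by
  classical
  have hle : PG T F K ≤ PG T F (insert k.val K) := parabolicIn_mono hT (Finset.subset_insert _ _)
  have hxI : PosOn T hT (insert k.val K) x := by
    intro i hi
    rcases Finset.mem_insert.mp hi with h | h
    · rwa [Fin.ext h]
    · exact hxK i h
  have hinj : ∀ g1 ∈ PG T F J, ∀ g2 ∈ PG T F J,
      (g1 * nG hT F x)⁻¹ * (g2 * nG hT F x) ∈ PG T F (insert k.val K) →
        (g1 * nG hT F x)⁻¹ * (g2 * nG hT F x) ∈ PG T F K := by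
    intro g1 h1 g2 h2 h
    have he : (g1 * nG hT F x)⁻¹ * (g2 * nG hT F x) =
        (nG hT F x)⁻¹ * (g1⁻¹ * g2) * nG hT F x := by group
    rw [he] at h ⊢
    obtain ⟨u, hu, y, hy, huy, -, b, hb, n, hn, hm, c, hc, e⟩ :=
      stab_cell hT hC hx hxI hxJ (mul_mem (inv_mem h1) h2) h
    obtain ⟨u', hu', hp', hm'⟩ := deodhar hT hu hx hxK
    have hpI : PosOn T hT (insert k.val K) (u' * x) := by
      intro i hi
      rcases Finset.mem_insert.mp hi with h' | h'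
      · rw [Fin.ext h', Equiv.Perm.mul_apply]
        exact (wJ_pos hT hu' hk hkJ).1
      · exact hp' i h'
    have hxx : x = u' * x := by
      refine rep_unique hT hx (mul_mem (wJ_le hT J hu') hx) hxI hpI ?_
      have := mul_mem hy (inv_mem (wJ_mono hT (Finset.subset_insert k.val K) hm'))
      rwa [huy, show y * ((u' * x)⁻¹ * (x * y))⁻¹ = x⁻¹ * (u' * x) by group] at this
    rw [← hxx, huy, inv_mul_cancel_left] at hm'
    exact mem_parabolic_of_cell hT hb hn hm hm' hc e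
  let f : {q : ↥(T.datum.group F) ⧸ PG T F K //
      (∃ h ∈ PG T F J, q = ↑(h * nG hT F x)) ∧ g • q = q} →
      {q : ↥(T.datum.group F) ⧸ PG T F (insert k.val K) //
        (∃ h ∈ PG T F J, q = ↑(h * nG hT F x)) ∧ g • q = q} := fun q =>
    ⟨Subgroup.quotientMapOfLE hle q.1, by
      obtain ⟨q, ⟨h, hh, rfl⟩, hq⟩ := q
      refine ⟨⟨h, hh, Subgroup.quotientMapOfLE_apply_mk hle _⟩, ?_⟩
      rw [Subgroup.quotientMapOfLE_apply_mk, MulAction.Quotient.smul_coe, smul_eq_mul]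
      rw [MulAction.Quotient.smul_coe, smul_eq_mul] at hq
      exact QuotientGroup.eq.mpr (hle (QuotientGroup.eq.mp hq))⟩
  refine Nat.card_eq_of_bijective f ⟨?_, ?_⟩
  · rintro ⟨q, ⟨h, hh, rfl⟩, hq⟩ ⟨q', ⟨h', hh', rfl⟩, hq'⟩ he
    have he' := congrArg Subtype.val he
    simp only [f, Subgroup.quotientMapOfLE_apply_mk] at he'
    exact Subtype.ext (QuotientGroup.eq.mpr (hinj h hh h' hh' (QuotientGroup.eq.mp he')))
  · rintro ⟨q, ⟨h, hh, rfl⟩, hq⟩
    rw [MulAction.Quotient.smul_coe, smul_eq_mul, QuotientGroup.eq, ← mul_assoc g h] at hq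
    refine ⟨⟨↑(h * nG hT F x), ⟨h, hh, rfl⟩, ?_⟩, Subtype.ext (Subgroup.quotientMapOfLE_apply_mk hle _)⟩
    rw [MulAction.Quotient.smul_coe, smul_eq_mul, QuotientGroup.eq, ← mul_assoc g h]
    exact hinj _ (mul_mem hg hh) _ hh hq

open Classical in
/-- The fixed points on the cosets of `P_K`, orbit by orbit. -/
theorem fixJ_orbits [Finite F] {J K : Finset ℕ} (g : ↥(T.datum.group F)) :
    fixJ T F (Finset.range T.rank) K g =
      ∑ x ∈ Finset.univ.filter (fun x => x ∈ T.WP hT ∧ PosOn T hT K x ∧ PosOn T hT J x⁻¹),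
        orbFix hT F J K x g := by
  set S := Finset.univ.filter
    (fun x => x ∈ T.WP hT ∧ PosOn T hT K x ∧ PosOn T hT J x⁻¹) with hS
  simp only [fixJ, orbFix]
  rw [← Finset.sum_coe_sort S, ← Nat.card_sigma]
  let f : ((x : ↥S) × {q : ↥(T.datum.group F) ⧸ PG T F K //
      (∃ h ∈ PG T F J, q = ↑(h * nG hT F x.1)) ∧ g • q = q}) →
      {q : ↥(T.datum.group F) ⧸ PG T F K //
        (∃ h ∈ PG T F (Finset.range T.rank), q = ↑h) ∧ g • q = q} := fun y =>
    ⟨y.2.1, by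
      obtain ⟨y1, ⟨q, ⟨h, hh, rfl⟩, hq⟩⟩ := y
      exact ⟨⟨h * nG hT F y1.1, by rw [parabolicIn_range hT hC]; trivial, rfl⟩, hq⟩⟩
  refine (Nat.card_eq_of_bijective f ⟨?_, ?_⟩).symm
  · rintro ⟨⟨x, hx⟩, q, ⟨h, hh, rfl⟩, hq⟩ ⟨⟨x', hx'⟩, q', ⟨h', hh', rfl⟩, hq'⟩ he
    have he' : ((h * nG hT F x : ↥(T.datum.group F)) : ↥(T.datum.group F) ⧸ PG T F K) =
      ↑(h' * nG hT F x') := congrArg Subtype.val he
    obtain ⟨-, hxW, hxK, hxJ⟩ := Finset.mem_filter.mp hx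
    obtain ⟨-, hxW', hxK', hxJ'⟩ := Finset.mem_filter.mp hx'
    have h1 : (↑(h'⁻¹ * h * nG hT F x) : ↥(T.datum.group F) ⧸ PG T F K) = ↑(nG hT F x') := by
      rw [QuotientGroup.eq] at he' ⊢
      rwa [show (h'⁻¹ * h * nG hT F x)⁻¹ * nG hT F x' =
        (h * nG hT F x)⁻¹ * (h' * nG hT F x') by group]
    obtain rfl := orbit_unique hT hC hxW' hxW hxK' hxJ' hxK hxJ (mul_mem (inv_mem hh') hh) h1
    simp only [he']
  · rintro ⟨q, ⟨h, -, rfl⟩, hq⟩
    obtain ⟨x, hx, hxK, hxJ, h', hh', he⟩ := orbit_exists hT hC J K h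
    exact ⟨⟨⟨x, Finset.mem_filter.mpr ⟨Finset.mem_univ _, hx, hxK, hxJ⟩⟩,
      ↑h, ⟨h', hh', he⟩, hq⟩, rfl⟩

end CfsgLib.KnownB.Steinberg
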