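import Cfsg.Agent.Lib.KnownB.Steinberg.Restrict
import Cfsg.Agent.Lib.KnownB.Steinberg.Irreducible
import Cfsg.Agent.Lib.Chevalley.Poincare
import Cfsg.Agent.Lib.Coprime.Action

/-!
The alternating sum at an element of a parabolic subgroup of order prime to the characteristic is
the order of its centralizer in the unipotent radical times the alternating sum of the parabolic
subgroup.
-/

set_option autoImplicit false

namespace CfsgLib.KnownB.Steinberg

open CfsgLib.Chevalley CfsgLib.Chevalley.Tbl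

/-- The unipotent radical inside the group. -/
abbrev UG (T : Tbl) (F : Type*) [Field F] (J : Finset ℕ) : Subgroup ↥(T.datum.group F) :=
  (T.datum.unipotentRadical F J).subgroupOf (T.datum.group F)

/-- The number of elements of the unipotent radical commuting with `s`. -/
noncomputable def uCent (T : Tbl) (F : Type*) [Field F] (J : Finset ℕ)
    (s : ↥(T.datum.group F)) : ℕ :=
  Nat.card {v : ↥(T.datum.group F) // v ∈ UG T F J ∧ v * s = s * v}

/-- The element whose orbit does not cancel. -/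
noncomputable def zJ {T : Tbl} (hT : T.Valid) (J : Finset ℕ) : Equiv.Perm (Fin T.n) :=
  longJ hT J * longJ hT (Finset.range T.rank)

/-- The fundamental roots matched by `zJ`. -/
def Rel {T : Tbl} (hT : T.Valid) (J : Finset ℕ) (k j : ℕ) : Prop :=
  ∃ (hk : k < T.rank) (hj : j < T.rank), zJ hT J (T.simpF hT ⟨k, hk⟩) = T.simpF hT ⟨j, hj⟩

open Classical in
/-- The fundamental roots sent into `K'` by `zJ`. -/
noncomputable def preJ {T : Tbl} (hT : T.Valid) (J K' : Finset ℕ) : Finset ℕ :=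
  (Finset.range T.rank).filter fun k => ∃ j ∈ K', Rel hT J k j

variable {T : Tbl} (hT : T.Valid)
include hT

theorem mem_preJ {J K' : Finset ℕ} {k : ℕ} :
    k ∈ preJ hT J K' ↔ k < T.rank ∧ ∃ j ∈ K', Rel hT J k j := by
  classical
  rw [preJ, Finset.mem_filter, Finset.mem_range]

theorem inS_range (s : Fin T.n) : InS T (Finset.range T.rank) s :=
  fun _ hj hjJ => absurd (Finset.mem_range.mpr hj) hjJ

theorem zJ_mem (J : Finset ℕ) : zJ hT J ∈ T.WP hT :=
  mul_mem (wJ_le hT J (longJ_mem hT J)) (wJ_le hT _ (longJ_mem hT _))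

theorem zJ_inv (J : Finset ℕ) :
    (zJ hT J)⁻¹ = longJ hT (Finset.range T.rank) * longJ hT J := by
  rw [zJ, _root_.mul_inv_rev, longJ_inv hT, longJ_inv hT]

theorem longest_pos {s : Fin T.n} (hs : s.val < T.half) :
    T.half ≤ (longJ hT (Finset.range T.rank) s).val := by
  have h := longest_neg hT (le_negF (T := T) hs)
  rw [WP_negF hT (wJ_le hT _ (longJ_mem hT _))] at h
  exact (negF_lt_iff hT).mp h

theorem zJ_posOn (J : Finset ℕ) : PosOn T hT J (zJ hT J)⁻¹ := by
  intro i hi
  rw [zJ_inv hT, Equiv.Perm.mul_apply]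
  exact longest_pos hT (longJ_negOn hT J i hi)

theorem zJ_cases (J : Finset ℕ) (k : Fin T.rank) (h : T.half ≤ (zJ hT J (T.simpF hT k)).val) :
    InS T J (zJ hT J (T.simpF hT k)) := by
  by_contra hS
  have h1 := (wJ_pos hT (longJ_mem hT J) h hS).1
  rw [zJ, Equiv.Perm.mul_apply, ← Equiv.Perm.mul_apply (longJ hT J),
    show longJ hT J * longJ hT J = 1 by
      have := inv_mul_cancel (longJ hT J); rwa [longJ_inv hT] at this, Equiv.Perm.one_apply] at h1
  exact absurd h1 (not_le.mpr (longest_neg hT (half_le_simpF hT k)))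

theorem eq_zJ {J : Finset ℕ} {x : Equiv.Perm (Fin T.n)} (hx : x ∈ T.WP hT)
    (hxJ : PosOn T hT J x⁻¹)
    (h : ∀ k : Fin T.rank, T.half ≤ (x (T.simpF hT k)).val → InS T J (x (T.simpF hT k))) :
    x = zJ hT J := by
  have hw : longJ hT J * x = longJ hT (Finset.range T.rank) := by
    refine negOn_unique hT (J := Finset.range T.rank) ?_ (longJ_mem hT _) (fun k _ => ?_)
      (longJ_negOn hT _)
    · rw [wJ_top hT fun i hi => Finset.mem_range.mpr hi]
      exact mul_mem (wJ_le hT J (longJ_mem hT J)) hx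
    · rw [Equiv.Perm.mul_apply]
      set t := x (T.simpF hT k) with ht
      rcases Nat.lt_or_ge t.val T.half with hn | hp
      · have hS : ¬ InS T J t := fun hS => by
          have := hxJ.neg hT (inv_mem hx) hS hn
          rw [ht, show x⁻¹ (x (T.simpF hT k)) = T.simpF hT k from x.symm_apply_apply _] at this
          exact absurd (half_le_simpF hT k) (not_le.mpr this)
        have h1 := (wJ_pos hT (longJ_mem hT J) (le_negF hn)
          (fun hh => hS (by have := inS_negF hT hh; rwa [negF_negF] at this))).1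
        rw [WP_negF hT (wJ_le hT J (longJ_mem hT J))] at h1
        by_contra hge
        exact absurd h1 (not_le.mpr (negF_lt (not_lt.mp hge)))
      · exact (longJ_negOn hT J).neg hT (wJ_le hT J (longJ_mem hT J)) (h k hp) hp
  rw [zJ, ← hw, ← mul_assoc]
  conv_rhs => arg 1; arg 1; rw [← longJ_inv hT J]
  rw [inv_mul_cancel, one_mul]

theorem exists_co_pos {s : Fin T.n} (hs : T.half ≤ s.val) : ∃ j : Fin T.rank, 0 < T.co s.val j := by
  by_contra hno
  push Not at hno
  exact absurd hs (not_le.mpr (lt_half_of_co_nonpos hT s.2 fun j hj => hno ⟨j, hj⟩))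

theorem rel_of_pos {J : Finset ℕ} {k : Fin T.rank} (h : T.half ≤ (zJ hT J (T.simpF hT k)).val) :
    ∃ j ∈ J, Rel hT J k.val j := by
  have hz := zJ_mem hT J
  set z := zJ hT J with hzd
  set r := z (T.simpF hT k) with hr
  have hS : InS T J r := zJ_cases hT J k h
  obtain ⟨j, hj⟩ := exists_co_pos hT h
  have hjJ : j.val ∈ J := by
    by_contra hn
    rw [hS j.val j.2 hn] at hj
    exact lt_irrefl _ hj
  have key : ∀ m < T.rank,
      T.co r.val j * T.co (z⁻¹ (T.simpF hT j)).val m ≤ if m = k.val then 1 else 0 := by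
    intro m hm
    have hlin := WP_linear hT (inv_mem hz) r hm
    rw [show z⁻¹ r = T.simpF hT k from z.symm_apply_apply _, co_simpF hT k hm] at hlin
    rw [hlin]
    refine Finset.single_le_sum (f := fun i : Fin T.rank =>
      T.co r.val i * T.co (z⁻¹ (T.simpF hT i)).val m) (fun i _ => ?_) (Finset.mem_univ j)
    by_cases hi : i.val ∈ J
    · exact mul_nonneg (co_nonneg' hT h i.2) (co_nonneg' hT (zJ_posOn hT J i hi) hm)
    · rw [hS i.val i.2 hi, zero_mul]
  have hp : T.half ≤ (z⁻¹ (T.simpF hT j)).val := zJ_posOn hT J j hjJ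
  obtain ⟨m0, hm0⟩ := exists_co_pos hT hp
  have hzero : ∀ m < T.rank, m ≠ k.val → T.co (z⁻¹ (T.simpF hT j)).val m = 0 := by
    intro m hm hne
    have h1 := key m hm
    rw [if_neg hne] at h1
    rcases (co_nonneg' hT hp hm).lt_or_eq with h2 | h2
    · exact absurd h1 (not_le.mpr (mul_pos hj h2))
    · exact h2.symm
  have hm0k : m0.val = k.val := by
    by_contra hne
    rw [hzero m0 m0.2 hne] at hm0
    exact lt_irrefl _ hm0
  have hone : T.co (z⁻¹ (T.simpF hT j)).val k.val = 1 := by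
    rw [hm0k] at hm0
    have h1 := key k k.2
    rw [if_pos rfl] at h1
    have h2 : T.co (z⁻¹ (T.simpF hT j)).val k.val ≤ T.co r.val j * T.co (z⁻¹ (T.simpF hT j)).val k.val :=
      le_mul_of_one_le_left hm0.le (by omega)
    omega
  have he : z⁻¹ (T.simpF hT j) = T.simpF hT k := eq_simpF_of_co hT fun m hm => by
    split_ifs with hmk
    · rw [hmk]; exact hone
    · exact hzero m hm hmk
  refine ⟨j.val, hjJ, k.2, j.2, ?_⟩
  show z (T.simpF hT k) = _
  rw [← he]
  exact z.apply_symm_apply _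

theorem exists_rel {J : Finset ℕ} {j : Fin T.rank} (hj : j.val ∈ J) : ∃ k, Rel hT J k j.val := by
  have hz := zJ_mem hT J
  set z := zJ hT J with hzd
  set r := z⁻¹ (T.simpF hT j) with hr
  have hrp : T.half ≤ r.val := zJ_posOn hT J j hj
  have hlin : ∀ m < T.rank, (if m = j.val then (1 : ℤ) else 0) =
      ∑ k : Fin T.rank, T.co r.val k * T.co (z (T.simpF hT k)).val m := by
    intro m hm
    have := WP_linear hT hz r hm
    rwa [show z r = T.simpF hT j from z.apply_symm_apply _, co_simpF hT j hm] at this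
  have hout : ∀ m < T.rank, m ∉ J → ∀ k : Fin T.rank, T.co (z (T.simpF hT k)).val m ≤ 0 := by
    intro m hm hmJ k
    rcases Nat.lt_or_ge (z (T.simpF hT k)).val T.half with h | h
    · exact co_nonpos' hT h hm
    · rw [zJ_cases hT J k h m hm hmJ]
  obtain ⟨k, hk⟩ := exists_co_pos hT hrp
  have hkp : T.half ≤ (z (T.simpF hT k)).val := by
    by_contra hlt
    have hS : ¬ InS T J (z (T.simpF hT k)) := fun hS => by
      have := (zJ_posOn hT J).neg hT (inv_mem hz) hS (not_le.mp hlt)
      rw [show z⁻¹ (z (T.simpF hT k)) = T.simpF hT k from z.symm_apply_apply _] at this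
      exact absurd (half_le_simpF hT k) (not_le.mpr this)
    simp only [InS] at hS
    push Not at hS
    obtain ⟨m, hm, hmJ, hne⟩ := hS
    have h1 := hlin m hm
    rw [if_neg (fun e : m = j.val => hmJ (by rw [e]; exact hj))] at h1
    have h2 : ∑ k : Fin T.rank, T.co r.val k * T.co (z (T.simpF hT k)).val m < 0 := by
      refine lt_of_lt_of_eq (Finset.sum_lt_sum (fun i _ => ?_) ⟨k, Finset.mem_univ _, ?_⟩)
        (Finset.sum_const_zero (ι := Fin T.rank) (s := Finset.univ))
      · exact mul_nonpos_of_nonneg_of_nonpos (co_nonneg' hT hrp i.2) (hout m hm hmJ i)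
      · exact mul_neg_of_pos_of_neg hk (lt_of_le_of_ne (hout m hm hmJ k) hne)
    omega
  obtain ⟨i, hi, hk', hi', he⟩ := rel_of_pos hT hkp
  refine ⟨k.val, hk', j.2, ?_⟩
  rw [he]
  congr 1
  apply Fin.ext
  show i = j.val
  by_contra hne
  have h1 := hlin i hi'
  rw [if_neg hne] at h1
  have hrest : ∀ l : Fin T.rank, 0 ≤ T.co r.val l * T.co (z (T.simpF hT l)).val i := by
    intro l
    rcases Nat.lt_or_ge (z (T.simpF hT l)).val T.half with h | h
    · by_cases hc : T.co r.val l = 0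
      · rw [hc, zero_mul]
      · exfalso
        have hS : ¬ InS T J (z (T.simpF hT l)) := fun hS => by
          have := (zJ_posOn hT J).neg hT (inv_mem hz) hS h
          rw [show z⁻¹ (z (T.simpF hT l)) = T.simpF hT l from z.symm_apply_apply _] at this
          exact absurd (half_le_simpF hT l) (not_le.mpr this)
        simp only [InS] at hS
        push Not at hS
        obtain ⟨m, hm, hmJ, hne'⟩ := hS
        have h3 := hlin m hm
        rw [if_neg (fun e : m = j.val => hmJ (by rw [e]; exact hj))] at h3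
        have h4 := (Finset.sum_eq_zero_iff_of_nonpos fun l _ =>
          mul_nonpos_of_nonneg_of_nonpos (co_nonneg' hT hrp l.2) (hout m hm hmJ l)).mp h3.symm l
          (Finset.mem_univ _)
        rcases mul_eq_zero.mp h4 with h5 | h5
        · exact hc h5
        · exact hne' h5
    · exact mul_nonneg (co_nonneg' hT hrp l.2) (co_nonneg' hT h hi')
  have h6 := (Finset.sum_eq_zero_iff_of_nonneg fun l _ => hrest l).mp h1.symm k (Finset.mem_univ _)
  rw [show z (T.simpF hT k) = T.simpF hT ⟨i, hi'⟩ from he, co_simpF hT _ hi', if_pos rfl, mul_one] at h6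
  omega

theorem Rel.inj_left {J : Finset ℕ} {k k' j : ℕ} (h : Rel hT J k j) (h' : Rel hT J k' j) :
    k = k' := by
  obtain ⟨hk, hj, e⟩ := h
  obtain ⟨hk', hj', e'⟩ := h'
  exact congrArg Fin.val (simpF_injective hT ((zJ hT J).injective (e.trans e'.symm)))

theorem Rel.inj_right {J : Finset ℕ} {k j j' : ℕ} (h : Rel hT J k j) (h' : Rel hT J k j') :
    j = j' := by
  obtain ⟨hk, hj, e⟩ := h
  obtain ⟨hk', hj', e'⟩ := h'
  exact congrArg Fin.val (simpF_injective hT (e.symm.trans e'))

/-- `zJ` conjugates the matched fundamental reflections into one another. -/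
theorem rel_conj {J : Finset ℕ} {k j : Fin T.rank} (h : Rel hT J k.val j.val) :
    (zJ hT J)⁻¹ * T.refP hT j * zJ hT J = T.refP hT k := by
  obtain ⟨_, _, e⟩ := h
  have hz := zJ_mem hT J
  have e' : zJ hT J (T.simpF hT k) = T.simpF hT j := e
  have hsimp : ∀ l : Fin T.rank, l.val ∈ ({k.val} : Finset ℕ) → l = k := fun l hl =>
    Fin.ext (Finset.mem_singleton.mp hl)
  have hp : PosOn T hT {k.val} (zJ hT J) := fun l hl => by
    rw [hsimp l hl, e']; exact half_le_simpF hT j
  have hneg : (T.refP hT j * zJ hT J) (T.simpF hT k) = T.negF (T.simpF hT j) := by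
    rw [Equiv.Perm.mul_apply, e', refP_simpF]
  rcases deodhar_step hT hz hp j with h1 | h1
  · have := h1 k (Finset.mem_singleton_self _)
    rw [hneg] at this
    exact absurd this (not_le.mpr (negF_lt (half_le_simpF hT j)))
  · refine negOn_unique hT (J := {k.val}) (by rwa [mul_assoc]) (refP_mem_wJ hT (Finset.mem_singleton_self _))
      (fun l hl => ?_) (fun l hl => ?_)
    · rw [hsimp l hl, mul_assoc, Equiv.Perm.mul_apply, hneg, WP_negF hT (inv_mem hz), ← e']
      show (T.negF ((zJ hT J).symm (zJ hT J (T.simpF hT k)))).val < T.half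
      rw [Equiv.symm_apply_apply]
      exact negF_lt (half_le_simpF hT k)
    · rw [hsimp l hl, refP_simpF]
      exact negF_lt (half_le_simpF hT k)

theorem conj_in {J K' : Finset ℕ} (hK : K' ⊆ J) {u : Equiv.Perm (Fin T.n)} (hu : u ∈ WJ T hT K') :
    (zJ hT J)⁻¹ * u * zJ hT J ∈ WJ T hT (preJ hT J K') := by
  induction hu using Subgroup.closure_induction with
  | mem x hx =>
    obtain ⟨j, hj, rfl⟩ := hx
    obtain ⟨k, hk⟩ := exists_rel hT (hK hj)
    rw [rel_conj hT (k := ⟨k, hk.1⟩) hk]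
    exact refP_mem_wJ hT ((mem_preJ hT).mpr ⟨hk.1, j.val, hj, hk⟩)
  | one => simp
  | mul x y _ _ hx hy => simpa [mul_assoc] using mul_mem hx hy
  | inv x _ hx => simpa [mul_assoc] using inv_mem hx

theorem conj_out {J K' : Finset ℕ} {y : Equiv.Perm (Fin T.n)} (hy : y ∈ WJ T hT (preJ hT J K')) :
    zJ hT J * y * (zJ hT J)⁻¹ ∈ WJ T hT K' := by
  induction hy using Subgroup.closure_induction with
  | mem x hx =>
    obtain ⟨k, hk, rfl⟩ := hx
    obtain ⟨-, j, hj, hkj⟩ := (mem_preJ hT).mp hk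
    rw [← rel_conj hT (j := ⟨j, hkj.2.1⟩) hkj]
    have := refP_mem_wJ (i := ⟨j, hkj.2.1⟩) hT hj
    simpa [mul_assoc] using this
  | one => simp
  | mul x y _ _ hx hy => simpa [mul_assoc] using mul_mem hx hy
  | inv x _ hx => simpa [mul_assoc] using inv_mem hx

theorem preJ_posOn (J K' : Finset ℕ) : PosOn T hT (preJ hT J K') (zJ hT J) := by
  intro k hk
  obtain ⟨-, j, -, _, hj, e⟩ := (mem_preJ hT).mp hk
  rw [show zJ hT J (T.simpF hT k) = T.simpF hT ⟨j, hj⟩ from e]
  exact half_le_simpF hT _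

theorem preJ_mono {J K' K : Finset ℕ} (h : K' ⊆ K) : preJ hT J K' ⊆ preJ hT J K := fun k hk => by
  obtain ⟨hr, j, hj, hkj⟩ := (mem_preJ hT).mp hk
  exact (mem_preJ hT).mpr ⟨hr, j, h hj, hkj⟩

variable {F : Type*} [Field F] (hC : T.chkComm = true) (hS : T.chkSupp = true)
include hC hS

theorem UG_le_pos {J : Finset ℕ} {v : ↥(T.datum.group F)} (hv : v ∈ UG T F J) :
    v ∈ (T.datum.posUnipotent F).subgroupOf (T.datum.group F) :=
  Subgroup.mem_subgroupOf.mpr (radical_le_pos hT hC hS J (Subgroup.mem_subgroupOf.mp hv))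

theorem UG_le_parabolic {J : Finset ℕ} (K : Finset ℕ) : UG T F J ≤ PG T F K := fun _ hv =>
  pos_le_parabolicIn hT hC K (UG_le_pos hT hC hS hv)

theorem UG_normal {J : Finset ℕ} {h v : ↥(T.datum.group F)} (hh : h ∈ PG T F J)
    (hv : v ∈ UG T F J) : h * v * h⁻¹ ∈ UG T F J := by
  have hn := parabolic_le_normalizer (F := F) hT hC hS (J : Set ℕ)
  have := (Subgroup.mem_normalizer_iff.mp (hn (Subgroup.mem_subgroupOf.mp hh)) (v : GL T.I F)).mp
    (Subgroup.mem_subgroupOf.mp hv)
  exact Subgroup.mem_subgroupOf.mpr this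

theorem radical_free {J : Finset ℕ} {v : ↥(T.datum.group F)} (hv : v ∈ UG T F J)
    (h : (nG hT F (zJ hT J))⁻¹ * v * nG hT F (zJ hT J) ∈ PG T F (preJ hT J J)) : v = 1 := by
  have hz := zJ_mem hT J
  have hvB : (v : GL T.I F) ∈ T.datum.borelSubgroup F :=
    Subgroup.mem_sup_left (Subgroup.mem_subgroupOf.mp (UG_le_pos hT hC hS hv))
  obtain ⟨u, -, y, -, huy, ⟨b, hb, n, hn, hm, c, hc, e⟩, ⟨b2, hb2, n2, hn2, hm2, c2, hc2, e2⟩⟩ :=
    stab_cell hT hC hz (preJ_posOn hT J J) (zJ_posOn hT J) (UG_le_parabolic hT hC hS J hv) h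
  have hu1 : u = 1 := (cell_unique hT hC (one_mem _) hb hvB hc (one_mem _) hn Mono.one hm
    (by rw [← e]; group)).symm
  rw [hu1, one_mul, left_eq_mul] at huy
  subst huy
  have hB : (((nG hT F (zJ hT J))⁻¹ * v * nG hT F (zJ hT J) : ↥(T.datum.group F)) : GL T.I F) ∈
      T.datum.borelSubgroup F := by
    rw [e2]
    exact mul_mem (mul_mem hb2 (Subgroup.mem_sup_right (mem_diag_of_mono_one hT hn2 hm2))) hc2
  have hV : (((nG hT F (zJ hT J))⁻¹ * v * nG hT F (zJ hT J) : ↥(T.datum.group F)) : GL T.I F) ∈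
      T.datum.negUnipotent F := by
    rw [negUnipotent_rootGen hT]
    have hv' := Subgroup.mem_subgroupOf.mp hv
    rw [radical_eq hT hC hS] at hv'
    have := conj_mem_rootGen (Q := fun r => r < T.half) hT (mono_nG (F := F) hT hz).inv
      (fun r hr => ?_) hv'
    · rw [inv_inv] at this
      simpa using this
    · obtain ⟨hr', hrp, hrw⟩ := hr
      have hns : ¬ InS T J r := fun hS' => absurd hrw
        (not_le.mpr ((longJ_negOn hT J).neg hT (wJ_le hT J (longJ_mem hT J)) hS' hrp))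
      simp only [InS] at hns
      push Not at hns
      obtain ⟨m, hm', hmJ, hne⟩ := hns
      by_contra hge
      set t := (zJ hT J)⁻¹ r with ht
      have hlin := WP_linear hT hz t hm'
      rw [show zJ hT J t = r from (zJ hT J).apply_symm_apply _] at hlin
      have h1 : T.co r.val m ≤ 0 := by
        rw [hlin]
        refine Finset.sum_nonpos fun k _ =>
          mul_nonpos_of_nonneg_of_nonpos (co_nonneg' hT (not_lt.mp hge) k.2) ?_
        rcases Nat.lt_or_ge (zJ hT J (T.simpF hT k)).val T.half with h' | h'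
        · exact co_nonpos' hT h' hm'
        · rw [zJ_cases hT J k h' m hm' hmJ]
      have h2 := co_nonneg' hT hrp hm'
      omega
  have h0 : (((nG hT F (zJ hT J))⁻¹ * v * nG hT F (zJ hT J) : ↥(T.datum.group F)) : GL T.I F) ∈
      (⊥ : Subgroup (GL T.I F)) := borel_inf_neg (T := T) (F := F) hT ▸ ⟨hB, hV⟩
  rw [Subgroup.mem_bot, OneMemClass.coe_eq_one] at h0
  rw [mul_assoc, inv_mul_eq_one, eq_comm, mul_eq_right] at h0
  exact h0

theorem levi_split {J : Finset ℕ} {g : ↥(T.datum.group F)} (hg : g ∈ PG T F J) :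
    ∃ v ∈ UG T F J, ∃ l ∈ PG T F J,
      (nG hT F (zJ hT J))⁻¹ * l * nG hT F (zJ hT J) ∈ PG T F (preJ hT J J) ∧ g = v * l := by
  have hz := zJ_mem hT J
  have hmz := mono_nG (F := F) hT hz
  have hnz := nG_mem (F := F) hT (zJ hT J)
  set nz := nG hT F (zJ hT J) with hnzd
  have hB : ∀ b : ↥(T.datum.group F), b ∈ BG T F →
      ∃ v ∈ UG T F J, ∃ l ∈ PG T F J, nz⁻¹ * l * nz ∈ PG T F (preJ hT J J) ∧ b = v * l := by
    intro b hb
    obtain ⟨u, hu, h, hh, e⟩ := (mem_borel_iff hT).mp (Subgroup.mem_subgroupOf.mp hb)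
    rw [posUnipotent_rootGen hT] at hu
    obtain ⟨p, hp, q, hq, rfl⟩ := exists_factor hT hC (T.posSet (longJ hT J)) (T.negSet (longJ hT J))
      (fun r hr hrp => by
        rcases Nat.lt_or_ge (longJ hT J ⟨r, hr⟩).val T.half with h | h
        · exact Or.inr ⟨hr, hrp, h⟩
        · exact Or.inl ⟨hr, hrp, h⟩) T.half T.half (Nat.two_mul _).symm le_rfl _ hu
    have hpG : p ∈ T.datum.group F :=
      (rootGen_le fun r hr _ t => xU_mem_group hT hr t :
        T.rootGen F (T.posSet (longJ hT J)) ≤ _) hp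
    have hqB : q ∈ T.datum.borelSubgroup F :=
      (rootGen_le fun r hr ⟨_, h, _⟩ t => pos_le_borel hT hr h t :
        T.rootGen F (T.negSet (longJ hT J)) ≤ _) hq
    have hqh : q * h ∈ T.datum.borelSubgroup F := mul_mem hqB (Subgroup.mem_sup_right hh)
    refine ⟨⟨p, hpG⟩, Subgroup.mem_subgroupOf.mpr (by rw [radical_eq hT hC hS]; exact hp),
      ⟨q * h, borel_le_group hT hqh⟩, borel_le_parabolic J (Subgroup.mem_subgroupOf.mpr hqh), ?_,
      Subtype.ext (by rw [e, mul_assoc]; rfl)⟩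
    refine borel_le_parabolic _ (Subgroup.mem_subgroupOf.mpr ?_)
    simp only [Subgroup.coe_mul, InvMemClass.coe_inv]
    rw [show (nz : GL T.I F)⁻¹ * (q * h) * nz = ((nz : GL T.I F)⁻¹ * q * nz) *
      ((nz : GL T.I F)⁻¹ * h * nz) by group]
    refine mul_mem (Subgroup.mem_sup_left ?_) (Subgroup.mem_sup_right ?_)
    · rw [posUnipotent_rootGen hT]
      have := conj_mem_rootGen (Q := fun r => T.half ≤ r) hT hmz.inv (fun r hr => ?_) hq
      · rwa [inv_inv] at this
      · obtain ⟨hr', hrp, hrw⟩ := hr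
        have hS' : InS T J r := by
          by_contra hn
          exact absurd (wJ_pos hT (longJ_mem hT J) hrp hn).1 (not_le.mpr hrw)
        exact (zJ_posOn hT J).pos hT (inv_mem hz) hS' hrp
    · have := conj_diag hT (inv_mem hnz) hh
      rwa [inv_inv] at this
  obtain ⟨b, hb, n, hn, u, hu, hm, c, hc, e⟩ := parabolic_cell hT hC (Subgroup.mem_subgroupOf.mp hg)
  let nn : ↥(T.datum.group F) := ⟨n, monomial_le_group hT hn⟩
  have hnJ : nn ∈ PG T F J := Subgroup.mem_subgroupOf.mpr (mem_parabolic_of_mono hT hn hm hu)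
  have hnQ : nz⁻¹ * nn * nz ∈ PG T F (preJ hT J J) :=
    Subgroup.mem_subgroupOf.mpr (mem_parabolic_of_mono hT
      (mul_mem (mul_mem (inv_mem hnz) hn) hnz) ((hmz.inv.mul hm).mul hmz) (conj_in hT subset_rfl hu))
  obtain ⟨v1, hv1, l1, hl1, hl1', e1⟩ := hB ⟨b, borel_le_group hT hb⟩ (Subgroup.mem_subgroupOf.mpr hb)
  obtain ⟨v2, hv2, l2, hl2, hl2', e2⟩ := hB ⟨c, borel_le_group hT hc⟩ (Subgroup.mem_subgroupOf.mpr hc)
  refine ⟨v1 * ((l1 * nn) * v2 * (l1 * nn)⁻¹),
    mul_mem hv1 (UG_normal hT hC hS (mul_mem hl1 hnJ) hv2),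
    l1 * nn * l2, mul_mem (mul_mem hl1 hnJ) hl2, ?_, ?_⟩
  · rw [show nz⁻¹ * (l1 * nn * l2) * nz = (nz⁻¹ * l1 * nz) * (nz⁻¹ * nn * nz) * (nz⁻¹ * l2 * nz)
      by group]
    exact mul_mem (mul_mem hl1' hnQ) hl2'
  · have : g = (v1 * l1) * nn * (v2 * l2) := by
      rw [← e1, ← e2]; exact Subtype.ext e
    rw [this]
    group

end CfsgLib.KnownB.Steinberg
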