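import Cfsg.Agent.Lib.KnownB.Steinberg.Formula

/-!
The value of the Steinberg character at a semisimple element.
-/

set_option autoImplicit false

namespace CfsgLib.KnownB.Steinberg

open CfsgLib.Chevalley CfsgLib.Chevalley.Tbl

variable {T : Tbl} (hT : T.Valid) {F : Type*} [Field F] (hC : T.chkComm = true)
  (hS : T.chkSupp = true)
include hT hC hS

theorem exists_pgroup_value [Fintype F] (p : ℕ) [Fact p.Prime] [CharP F p] :
    ∀ J : Finset ℕ, J ⊆ Finset.range T.rank → ∀ s : ↥(T.datum.group F), s ∈ PG T F J →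
      ¬ p ∣ orderOf s →
      ∃ W : Subgroup ↥(T.datum.group F), IsPGroup p W ∧ (∀ w ∈ W, w * s = s * w) ∧
        (StJ T F (Finset.range T.rank) s = (Nat.card W : ℤ) ∨
          StJ T F (Finset.range T.rank) s = -(Nat.card W : ℤ)) := by
  intro J
  induction J using Finset.strongInduction with
  | _ J IH =>
    intro hJ s hs hsp
    by_cases hred : ∃ K, K ⊂ J ∧ ∃ h, h⁻¹ * s * h ∈ PG T F K
    · obtain ⟨K, hKJ, h, hh⟩ := hred
      have hord : orderOf (h⁻¹ * s * h) = orderOf s := by
        have := (MulAut.conj h⁻¹).orderOf_eq s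
        simpa using this
      obtain ⟨W, hW, hc, hv⟩ := IH K hKJ (hKJ.1.trans hJ) _ hh (by rw [hord]; exact hsp)
      refine ⟨W.map (MulAut.conj h).toMonoidHom, hW.map _, ?_, ?_⟩
      · rintro _ ⟨w, hw, rfl⟩
        have := congrArg (MulAut.conj h) (hc w hw)
        simpa [mul_assoc] using this
      · have hmem : h⁻¹ ∈ PG T F (Finset.range T.rank) := by
          rw [parabolicIn_range hT hC]; trivial
        have hconj := StJ_conj hT (Finset.range T.rank) hmem s
        rw [inv_inv] at hconj
        rw [← Nat.card_congr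
          (W.equivMapOfInjective (MulAut.conj h).toMonoidHom (MulAut.conj h).injective).toEquiv,
          ← hconj]
        exact hv
    · push Not at hred
      let W : Subgroup ↥(T.datum.group F) := UG T F J ⊓ Subgroup.centralizer {s}
      have hmemW : ∀ w, w ∈ W ↔ w ∈ UG T F J ∧ w * s = s * w := fun w => by
        rw [Subgroup.mem_inf, Subgroup.mem_centralizer_singleton_iff]
      refine ⟨W, (isPGroup_pos (F := F) hT hC p).to_le
        (inf_le_left.trans fun v hv => UG_le_pos hT hC hS hv), fun w hw => ((hmemW w).mp hw).2, ?_⟩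
      have hcard : uCent T F J s = Nat.card W :=
        Nat.card_congr (Equiv.subtypeEquivRight fun w => (hmemW w).symm)
      have hJJ : StJ T F J s = (-1 : ℤ) ^ J.card := by
        rw [StJ, Finset.sum_eq_single J]
        · have h1 : fixJ T F J J s = 1 := by
            rw [fixJ, Nat.card_eq_one_iff_unique]
            refine ⟨⟨fun ⟨a, ⟨x, hx, ha⟩, _⟩ ⟨c, ⟨y, hy, hc⟩, _⟩ => Subtype.ext ?_⟩,
              ⟨⟨↑(1 : ↥(T.datum.group F)), ⟨1, one_mem _, rfl⟩, ?_⟩⟩⟩
            · exact (show a = ↑x from ha).trans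
                ((QuotientGroup.eq.mpr (mul_mem (inv_mem hx) hy)).trans (show c = ↑y from hc).symm)
            · rw [MulAction.Quotient.smul_coe, smul_eq_mul, mul_one, QuotientGroup.eq, mul_one]
              exact inv_mem hs
          rw [h1, Nat.cast_one, mul_one]
        · intro K hK hne
          have hKJ : K ⊂ J := Finset.ssubset_iff_subset_ne.mpr ⟨Finset.mem_powerset.mp hK, hne⟩
          have h0 : fixJ T F J K s = 0 := by
            rw [fixJ, Nat.card_eq_zero]
            refine Or.inl ⟨fun q => ?_⟩
            obtain ⟨q, ⟨h, -, rfl⟩, hq⟩ := q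
            rw [MulAction.Quotient.smul_coe, smul_eq_mul, eq_comm, QuotientGroup.eq,
              ← mul_assoc] at hq
            exact hred K hKJ h hq
          rw [h0, Nat.cast_zero, mul_zero]
        · simp
      rw [StJ_semisimple hT hC hS p hJ hs hsp, hJJ, hcard]
      rcases neg_one_pow_eq_or ℤ J.card with h | h <;> rw [h] <;> simp

theorem steinberg_value [Fintype F] (p : ℕ) [hp : Fact p.Prime] [CharP F p]
    (g : ↥(T.datum.group F)) (hg : ¬ p ∣ orderOf g) :
    T.datum.steinbergCharacter F g = ((p ^ (Nat.card ↥(Subgroup.centralizer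
        ({g} : Set ↥(T.datum.group F)))).factorization p : ℕ) : ℂ) ∨
      T.datum.steinbergCharacter F g = -((p ^ (Nat.card ↥(Subgroup.centralizer
        ({g} : Set ↥(T.datum.group F)))).factorization p : ℕ) : ℂ) := by
  set C := Subgroup.centralizer ({g} : Set ↥(T.datum.group F)) with hCd
  obtain ⟨W, hW, hc, hv⟩ := exists_pgroup_value (F := F) hT hC hS p (Finset.range T.rank) subset_rfl g
    (by rw [parabolicIn_range hT hC]; trivial) hg
  set e := (Nat.card C).factorization p with he
  obtain ⟨a, ha⟩ := IsPGroup.iff_card.mp hW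
  have hWC : W ≤ C := fun w hw => Subgroup.mem_centralizer_singleton_iff.mpr (hc w hw)
  have hae : a ≤ e := by
    have h1 : p ^ a ∣ Nat.card C := ha ▸ Subgroup.card_dvd_of_le hWC
    exact (hp.out.pow_dvd_iff_le_factorization Nat.card_pos.ne').mp h1
  -- integrality
  obtain ⟨n, ρ, hρ, hχ⟩ := steinberg_isIrr (F := F) hT hC
  obtain ⟨c, hc', hcard⟩ := exists_card_parabolic (F := F) hT hC p (Finset.range T.rank)
  rw [parabolicIn_range hT hC, Subgroup.card_top] at hcard
  haveI := hρ
  have hint := CfsgLib.Char.isIntegral_centralChar ρ g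
  have hdim : (Module.finrank ℂ (Fin n → ℂ) : ℂ) = ((Fintype.card F ^ T.half : ℕ) : ℂ) := by
    have h := congrFun hχ 1
    rw [Representation.char_one, steinberg_one hT hC] at h
    rw [h]; push_cast; rfl
  have hval : ρ.character g = (StJ T F (Finset.range T.rank) g : ℂ) := by
    rw [hχ, steinberg_eq_StJ hT hC]
  rw [← hCd, hdim, hval] at hint
  have hdvd : Fintype.card F ^ T.half ∣ C.index * p ^ a := by
    have hb : (Fintype.card F ^ T.half : ℕ) ≠ 0 := pow_ne_zero _ Fintype.card_ne_zero
    refine CfsgLib.Char.dvd_of_isIntegral_div hb ?_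
    rcases hv with h | h <;> rw [h, ha] at hint <;> push_cast at hint ⊢
    · exact hint
    · have := hint.neg
      rwa [mul_neg, neg_div, neg_neg] at this
  have hea : e ≤ a := by
    obtain ⟨m, -, hm⟩ := FiniteField.card F p
    rw [hm, ← pow_mul] at hdvd hcard
    set N := (m : ℕ) * T.half
    have h2 : p ^ (N + e) ∣ p ^ (a + N) := by
      have h3 : p ^ (N + e) ∣ C.index * p ^ a * Nat.card C := by
        rw [pow_add]; exact mul_dvd_mul hdvd (Nat.ordProj_dvd _ _)
      rw [show C.index * p ^ a * Nat.card C = c * p ^ (a + N) by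
        rw [pow_add, show C.index * p ^ a * Nat.card C = p ^ a * (C.index * Nat.card C) by ring,
          Subgroup.index_mul_card, hcard]
        ring] at h3
      exact (Nat.Coprime.pow_left _ (hp.out.coprime_iff_not_dvd.mpr hc')).dvd_of_dvd_mul_left h3
    have := (Nat.pow_dvd_pow_iff_le_right hp.out.one_lt).mp h2
    omega
  obtain rfl : a = e := le_antisymm hae hea
  rcases hv with h | h
  · left
    rw [steinberg_eq_StJ hT hC, h, ha]
    push_cast
    rfl
  · right
    rw [steinberg_eq_StJ hT hC, h, ha]
    push_cast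
    rfl

end CfsgLib.KnownB.Steinberg
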