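import Cfsg.Agent.Lib.Chevalley.Levi
import Cfsg.Agent.Lib.KnownB.Steinberg.Cells
import Mathlib.GroupTheory.Index

/-!
Fixed points in a single Bruhat cell, orders of parabolic subgroups and Sylow subgroups in the
defining characteristic.
-/

set_option autoImplicit false

namespace CfsgLib.KnownB.Steinberg

open CfsgLib.Chevalley CfsgLib.Chevalley.Tbl

variable {T : Tbl} {F : Type*} [Field F] (hT : T.Valid)
include hT

variable (hC : T.chkComm = true)
include hC

/-- An element of `U` is moved into `B` by `n` exactly when it lies in the part kept positive. -/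
theorem conj_mem_borel_iff {n : GL T.I F} {w : Equiv.Perm (Fin T.n)}
    (hm : T.Mono n w) {u : GL T.I F} (hu : u ∈ T.datum.posUnipotent F) :
    n⁻¹ * u * n ∈ T.datum.borelSubgroup F ↔ u ∈ T.rootGen F (T.posSet w⁻¹) := by
  have hpos : ∀ p ∈ T.rootGen F (T.posSet w⁻¹), n⁻¹ * p * n ∈ T.datum.borelSubgroup F := by
    intro p hp
    refine Subgroup.mem_sup_left ?_
    rw [posUnipotent_rootGen hT]
    have := conj_mem_rootGen (Q := fun r => T.half ≤ r) hT hm.inv (fun s ⟨_, _, h⟩ => h) hp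
    rwa [inv_inv] at this
  refine ⟨fun h => ?_, hpos u⟩
  rw [posUnipotent_rootGen hT] at hu
  obtain ⟨p, hp, q, hq, rfl⟩ := exists_factor hT hC (T.posSet w⁻¹) (T.negSet w⁻¹)
    (fun r hr hrp => by
      rcases Nat.lt_or_ge (w⁻¹ ⟨r, hr⟩).val T.half with h | h
      · exact Or.inr ⟨hr, hrp, h⟩
      · exact Or.inl ⟨hr, hrp, h⟩) T.half T.half (Nat.two_mul _).symm le_rfl _ hu
  have h1 : n⁻¹ * q * n ∈ T.datum.borelSubgroup F := by
    have := mul_mem (inv_mem (hpos p hp)) h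
    rwa [show (n⁻¹ * p * n)⁻¹ * (n⁻¹ * (p * q) * n) = n⁻¹ * q * n by group] at this
  have h2 : n⁻¹ * q * n ∈ T.datum.negUnipotent F := by
    rw [negUnipotent_rootGen hT]
    have := conj_mem_rootGen (Q := fun r => r < T.half) hT hm.inv (fun s ⟨_, _, h⟩ => h) hq
    rwa [inv_inv] at this
  have h0 : n⁻¹ * q * n ∈ (⊥ : Subgroup (GL T.I F)) :=
    borel_inf_neg (T := T) (F := F) hT ▸ ⟨h1, h2⟩
  rw [Subgroup.mem_bot, mul_assoc, inv_mul_eq_one, eq_comm, mul_eq_right] at h0
  rwa [h0, mul_one]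

theorem coset_rep {w : Equiv.Perm (Fin T.n)} (hw : w ∈ T.WP hT) {a : ↥(T.datum.group F)}
    (ha : a ∈ BG T F) :
    ∃ q : ↥(T.datum.group F), (q : GL T.I F) ∈ T.rootGen F (T.negSet w⁻¹) ∧
      ((a * nG hT F w : ↥(T.datum.group F)) : ↥(T.datum.group F) ⧸ BG T F) = ↑(q * nG hT F w) := by
  obtain ⟨u, hu, h, hh, e⟩ := (mem_borel_iff hT).mp (Subgroup.mem_subgroupOf.mp ha)
  rw [posUnipotent_rootGen hT] at hu
  obtain ⟨q, hq, p, hp, rfl⟩ := exists_factor hT hC (T.negSet w⁻¹) (T.posSet w⁻¹)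
    (fun r hr hrp => by
      rcases Nat.lt_or_ge (w⁻¹ ⟨r, hr⟩).val T.half with h | h
      · exact Or.inl ⟨hr, hrp, h⟩
      · exact Or.inr ⟨hr, hrp, h⟩) T.half T.half (Nat.two_mul _).symm le_rfl _ hu
  have hqG : q ∈ T.datum.group F :=
    (rootGen_le fun r hr _ t => xU_mem_group hT hr t : T.rootGen F (T.negSet w⁻¹) ≤ _) hq
  refine ⟨⟨q, hqG⟩, hq, ?_⟩
  rw [QuotientGroup.eq, Subgroup.mem_subgroupOf]
  simp only [Subgroup.coe_mul, InvMemClass.coe_inv]
  rw [e]
  set n := ((nG hT F w : ↥(T.datum.group F)) : GL T.I F)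
  rw [show (q * p * h * n)⁻¹ * (q * n) = (n⁻¹ * h * n)⁻¹ * (n⁻¹ * p * n)⁻¹ by group]
  refine mul_mem (inv_mem (Subgroup.mem_sup_right ?_)) (inv_mem ?_)
  · have := conj_diag hT (inv_mem (nG_mem (F := F) hT w)) hh
    rwa [inv_inv] at this
  · refine (conj_mem_borel_iff hT hC (mono_nG hT hw) ?_).mpr hp
    rw [posUnipotent_rootGen hT]
    exact rootGen_mono (fun r _ ⟨_, h, _⟩ => h) hp

theorem Fcell_one [Fintype F] {w : Equiv.Perm (Fin T.n)} (hw : w ∈ T.WP hT) :
    Fcell hT F w (1 : ↥(T.datum.group F)) = Fintype.card F ^ T.invN w := by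
  rw [← invN_inv hT hw, ← card_negSet hT hC (inv_mem hw)]
  have hle : T.rootGen F (T.negSet w⁻¹) ≤ T.datum.posUnipotent F := by
    rw [posUnipotent_rootGen hT]
    exact rootGen_mono fun r _ ⟨_, h, _⟩ => h
  let f : ↥(T.rootGen F (T.negSet w⁻¹)) → {q : ↥(T.datum.group F) ⧸ BG T F //
      (∃ a ∈ BG T F, q = ↑(a * nG hT F w)) ∧ (1 : ↥(T.datum.group F)) • q = q} := fun x =>
    ⟨↑((⟨(x : GL T.I F), borel_le_group hT (Subgroup.mem_sup_left (hle x.2))⟩ : ↥(T.datum.group F)) *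
        nG hT F w),
      ⟨⟨_, borel_le_group hT (Subgroup.mem_sup_left (hle x.2))⟩,
        Subgroup.mem_subgroupOf.mpr (Subgroup.mem_sup_left (hle x.2)), rfl⟩, one_smul _ _⟩
  rw [Fcell, Nat.card_eq_of_bijective f ⟨fun x y hxy => ?_, fun ⟨q, ⟨a, ha, hq⟩, _⟩ => ?_⟩]
  · have h1 := QuotientGroup.eq.mp (congrArg Subtype.val hxy)
    rw [Subgroup.mem_subgroupOf] at h1
    simp only [Subgroup.coe_mul, InvMemClass.coe_inv] at h1
    set n := ((nG hT F w : ↥(T.datum.group F)) : GL T.I F) with hn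
    rw [show ((x : GL T.I F) * n)⁻¹ * (y * n) = n⁻¹ * ((x : GL T.I F)⁻¹ * y) * n by group] at h1
    have h2 := (conj_mem_borel_iff hT hC (mono_nG hT hw)
      (mul_mem (inv_mem (hle x.2)) (hle y.2))).mp h1
    have hm := mono_nG (F := F) hT hw
    have h3 : n⁻¹ * ((x : GL T.I F)⁻¹ * y) * n ∈ T.datum.negUnipotent F := by
      rw [negUnipotent_rootGen hT]
      have := conj_mem_rootGen (Q := fun r => r < T.half) hT hm.inv (fun s ⟨_, _, h⟩ => h)
        (mul_mem (inv_mem x.2) y.2)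
      rwa [inv_inv] at this
    have h0 : n⁻¹ * ((x : GL T.I F)⁻¹ * y) * n ∈ (⊥ : Subgroup (GL T.I F)) :=
      borel_inf_neg (T := T) (F := F) hT ▸ ⟨h1, h3⟩
    rw [Subgroup.mem_bot, mul_assoc n⁻¹, inv_mul_eq_one, eq_comm, mul_eq_right, inv_mul_eq_one] at h0
    exact Subtype.ext h0
  · obtain ⟨c, hc, e⟩ := coset_rep hT hC hw ha
    exact ⟨⟨(c : GL T.I F), hc⟩, Subtype.ext (by simp only [f, hq, e])⟩

/-- The unipotent radical, by the longest element of the Levi part. -/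
theorem radical_eq (hS : T.chkSupp = true) (J : Finset ℕ) :
    T.datum.unipotentRadical F J = T.rootGen F (T.posSet (longJ hT J)) := by
  rw [unipotentRadical_eq hT]
  refine rootGen_congr fun r hr => ?_
  have hin : T.datum.InRootSub J r ↔ InS T J ⟨r, hr⟩ := by
    rw [supp_inSub hT hS hr]
    simp only [InS, Finset.mem_coe]
  rw [posRoot_iff hT, hin]
  constructor
  · rintro ⟨⟨-, hp⟩, hn⟩
    exact ⟨hr, hp, (wJ_pos hT (longJ_mem hT J) hp hn).1⟩
  · rintro ⟨_, hp, hw⟩
    exact ⟨⟨hr, hp⟩, fun h => absurd hw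
      (not_le.mpr ((longJ_negOn hT J).neg hT (wJ_le hT J (longJ_mem hT J)) h hp))⟩

theorem radical_le_pos (hS : T.chkSupp = true) (J : Finset ℕ) :
    T.datum.unipotentRadical F J ≤ T.datum.posUnipotent F := by
  rw [radical_eq hT hC hS, posUnipotent_rootGen hT]
  exact rootGen_mono fun r _ ⟨_, h, _⟩ => h

theorem card_radical [Fintype F] (hS : T.chkSupp = true) (J : Finset ℕ) :
    Fintype.card F ^ T.invN (longJ hT J) * Nat.card (T.datum.unipotentRadical F J) =
      Fintype.card F ^ T.half := by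
  classical
  rw [radical_eq hT hC hS, show T.rootGen F (T.posSet (longJ hT J)) =
    T.rootGen F (fun r => T.posSet (longJ hT J) r ∧ T.half ≤ r) from
    rootGen_congr fun r _ => ⟨fun h => ⟨h, h.2.1⟩, fun h => h.1⟩,
    card_closed hT hC (closed_posSet hT (wJ_le hT J (longJ_mem hT J))) T.half T.half
      (Nat.two_mul _).symm le_rfl, ← pow_add]
  congr 1
  have h1 : T.invN (longJ hT J) =
      ((Finset.Ico T.half T.n).filter fun r => ¬ T.posSet (longJ hT J) r).card := by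
    refine Finset.card_bij (fun s _ => s.val) (fun s hs => ?_) (fun a _ b _ h => Fin.ext h)
      (fun r hr => ?_)
    · rw [Finset.mem_filter] at hs
      rw [Finset.mem_filter, Finset.mem_Ico]
      exact ⟨⟨hs.2.1, s.2⟩, fun ⟨_, _, h⟩ => absurd h (not_le.mpr hs.2.2)⟩
    · rw [Finset.mem_filter, Finset.mem_Ico] at hr
      refine ⟨⟨r, hr.1.2⟩, ?_, rfl⟩
      rw [Finset.mem_filter]
      exact ⟨Finset.mem_univ _, hr.1.1, not_le.mp fun h => hr.2 ⟨hr.1.2, hr.1.1, h⟩⟩
  rw [h1, Nat.add_comm, Finset.card_filter_add_card_filter_not, Nat.card_Ico]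
  have : T.n = 2 * T.half := rfl
  omega

/-- In the cell of the longest element of a parabolic subgroup, an element of `U` fixes everything
or nothing. -/
theorem Fcell_longJ [Fintype F] (hS : T.chkSupp = true) (J : Finset ℕ)
    {u : ↥(T.datum.group F)} (hu : (u : GL T.I F) ∈ T.datum.posUnipotent F)
    [Decidable ((u : GL T.I F) ∈ T.datum.unipotentRadical F J)] :
    Fcell hT F (longJ hT J) u =
      if (u : GL T.I F) ∈ T.datum.unipotentRadical F J
        then Fintype.card F ^ T.invN (longJ hT J) else 0 := by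
  have hw := wJ_le hT J (longJ_mem hT J)
  have hUn : T.datum.borelSubgroup F ≤
      Subgroup.normalizer (T.datum.posUnipotent F : Set (GL T.I F)) := by
    refine sup_le Subgroup.le_normalizer ?_
    rw [posUnipotent_rootGen hT]
    exact diag_le_normalizer hT _
  have hUJn := parabolic_le_normalizer (F := F) hT hC hS (J : Set ℕ)
  have hfix : ∀ q : ↥(T.datum.group F) ⧸ BG T F, (∃ a ∈ BG T F, q = ↑(a * nG hT F (longJ hT J))) →
      (u • q = q ↔ (u : GL T.I F) ∈ T.datum.unipotentRadical F J) := by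
    rintro _ ⟨a, ha, rfl⟩
    set n := ((nG hT F (longJ hT J) : ↥(T.datum.group F)) : GL T.I F) with hn
    rw [eq_comm, MulAction.Quotient.smul_coe, smul_eq_mul, QuotientGroup.eq, Subgroup.mem_subgroupOf]
    simp only [Subgroup.coe_mul, InvMemClass.coe_inv]
    rw [show ((a : GL T.I F) * n)⁻¹ * (u * (a * n)) =
      n⁻¹ * ((a : GL T.I F)⁻¹ * u * a) * n by group]
    have haB := Subgroup.mem_subgroupOf.mp ha
    have hua : (a : GL T.I F)⁻¹ * u * a ∈ T.datum.posUnipotent F := by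
      have := (Subgroup.mem_normalizer_iff.mp (hUn (inv_mem haB)) (u : GL T.I F)).mp hu
      rwa [inv_inv] at this
    rw [conj_mem_borel_iff hT hC (mono_nG hT hw) hua, longJ_inv hT J, ← radical_eq hT hC hS]
    have := Subgroup.mem_normalizer_iff.mp (hUJn (Subgroup.mem_sup_left (inv_mem haB))) (u : GL T.I F)
    rw [inv_inv] at this
    exact this.symm
  split_ifs with h
  · rw [← Fcell_one (F := F) hT hC hw, Fcell, Fcell]
    refine Nat.card_congr (Equiv.subtypeEquivRight fun q => and_congr_right fun hq => ?_)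
    simp only [one_smul, iff_true]
    exact (hfix q hq).mpr h
  · rw [Fcell, Nat.card_eq_zero]
    exact Or.inl ⟨fun q => h ((hfix q.1 q.2.1).mp q.2.2)⟩

/-- The diagonal subgroup inside the Borel subgroup. -/
theorem Fcell_longest {w : Equiv.Perm (Fin T.n)} (hw : w ∈ T.WP hT)
    (hlong : ∀ s : Fin T.n, T.half ≤ s.val → (w s).val < T.half)
    (b : ↥(BG T F)) :
    Fcell hT F w (b : ↥(T.datum.group F)) = Nat.card (MulAction.fixedBy
      (↥(BG T F) ⧸ ((T.datum.diagonalSubgroup F).subgroupOf (T.datum.group F)).subgroupOf (BG T F)) b) := by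
  set H := ((T.datum.diagonalSubgroup F).subgroupOf (T.datum.group F)).subgroupOf (BG T F)
  have key : ∀ a : ↥(T.datum.group F), a ∈ BG T F →
      ((nG hT F w)⁻¹ * a * nG hT F w ∈ BG T F ↔ (a : GL T.I F) ∈ T.datum.diagonalSubgroup F) := by
    intro a ha
    rw [Subgroup.mem_subgroupOf]
    simp only [Subgroup.coe_mul, InvMemClass.coe_inv]
    obtain ⟨u, hu, h, hh, e⟩ := (mem_borel_iff hT).mp (Subgroup.mem_subgroupOf.mp ha)
    set n := ((nG hT F w : ↥(T.datum.group F)) : GL T.I F)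
    have hnh : n⁻¹ * h * n ∈ T.datum.diagonalSubgroup F := by
      have := conj_diag hT (inv_mem (nG_mem (F := F) hT w)) hh
      rwa [inv_inv] at this
    rw [e, show n⁻¹ * (u * h) * n = (n⁻¹ * u * n) * (n⁻¹ * h * n) by group,
      Subgroup.mul_mem_cancel_right (T.datum.borelSubgroup F) (Subgroup.mem_sup_right hnh),
      conj_mem_borel_iff hT hC (mono_nG hT hw) hu, Subgroup.mul_mem_cancel_right _ hh]
    have hbot : T.rootGen F (T.posSet w⁻¹) = ⊥ := by
      refine eq_bot_iff.mpr (rootGen_le fun r hr ⟨_, hp, hwr⟩ => ?_)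
      have := hlong _ hwr
      rw [show w (w⁻¹ ⟨r, hr⟩) = ⟨r, hr⟩ from w.apply_symm_apply _] at this
      exact absurd hp (not_le.mpr this)
    rw [hbot, Subgroup.mem_bot]
    refine ⟨fun h => by rw [h]; exact one_mem _, fun h1 => ?_⟩
    have h2 : u ∈ (⊥ : Subgroup (GL T.I F)) :=
      pos_inf_diag (T := T) (F := F) hT ▸ Subgroup.mem_inf.mpr ⟨hu, h1⟩
    simpa using h2
  have keyH : ∀ a c : ↥(BG T F),
      ((((a : ↥(T.datum.group F)) * nG hT F w : ↥(T.datum.group F)) : ↥(T.datum.group F) ⧸ BG T F) =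
        ↑((c : ↥(T.datum.group F)) * nG hT F w)) ↔ (a : ↥(BG T F) ⧸ H) = ↑c := by
    intro a c
    rw [QuotientGroup.eq, QuotientGroup.eq, show ((a : ↥(T.datum.group F)) * nG hT F w)⁻¹ *
      ((c : ↥(T.datum.group F)) * nG hT F w) = (nG hT F w)⁻¹ * ((a⁻¹ * c : ↥(BG T F)) :
        ↥(T.datum.group F)) * nG hT F w by simp only [Subgroup.coe_mul, InvMemClass.coe_inv]; group,
      key _ (a⁻¹ * c).2]
    exact Iff.rfl
  let φ : ↥(BG T F) ⧸ H → ↥(T.datum.group F) ⧸ BG T F :=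
    Quotient.lift (fun a => ↑((a : ↥(T.datum.group F)) * nG hT F w))
      (fun a c h => (keyH a c).mpr (Quotient.sound h))
  have hφ : ∀ a : ↥(BG T F), φ ↑a = ↑((a : ↥(T.datum.group F)) * nG hT F w) := fun a => rfl
  have hsmul : ∀ q, φ (b • q) = (b : ↥(T.datum.group F)) • φ q := by
    intro q
    obtain ⟨a, rfl⟩ := QuotientGroup.mk_surjective q
    rw [MulAction.Quotient.smul_coe, hφ, hφ, MulAction.Quotient.smul_coe]
    simp only [smul_eq_mul, Subgroup.coe_mul, mul_assoc]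
  have hinj : Function.Injective φ := by
    intro p q h
    obtain ⟨a, rfl⟩ := QuotientGroup.mk_surjective p
    obtain ⟨c, rfl⟩ := QuotientGroup.mk_surjective q
    exact (keyH a c).mp h
  rw [Fcell]
  let ψ : MulAction.fixedBy (↥(BG T F) ⧸ H) b → {q : ↥(T.datum.group F) ⧸ BG T F //
      (∃ a ∈ BG T F, q = ↑(a * nG hT F w)) ∧ (b : ↥(T.datum.group F)) • q = q} := fun q =>
    ⟨φ q.1, by
      obtain ⟨a, ha⟩ := QuotientGroup.mk_surjective q.1
      exact ⟨a, a.2, by rw [← ha]; exact hφ a⟩, by rw [← hsmul]; exact congrArg φ q.2⟩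
  refine (Nat.card_eq_of_bijective ψ ⟨?_, ?_⟩).symm
  · intro p q h
    exact Subtype.ext (hinj (congrArg Subtype.val h))
  · rintro ⟨q, ⟨a, ha, rfl⟩, hq⟩
    refine ⟨⟨↑(⟨a, ha⟩ : ↥(BG T F)), hinj ?_⟩, rfl⟩
    rw [hsmul]
    exact hq

omit hC in
theorem card_coprime_diag [Fintype F] (p : ℕ) [hp : Fact p.Prime] [CharP F p] :
    ¬ p ∣ Nat.card (T.datum.diagonalSubgroup F) := by
  intro hd
  obtain ⟨x, hx⟩ := exists_prime_orderOf_dvd_card' p hd
  obtain ⟨χ, hχ, e⟩ := diag_exists_char hT x.2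
  have hchar : ∀ m : ℕ, (x : GL T.I F) ^ m = T.dU (χ ^ m) := by
    intro m
    induction m with
    | zero => rw [pow_zero, pow_zero, dU_one]
    | succ m ih => rw [pow_succ, ih, e, dU_mul, pow_succ]
  have hpow : (x : GL T.I F) ^ (Fintype.card F - 1) = 1 := by
    rw [hchar, ← dU_one (T := T) (F := F)]
    refine dU_congr fun s _ => Units.ext ?_
    simp [FiniteField.pow_card_sub_one_eq_one (χ s : F) (Units.ne_zero _)]
  have h1 : p ∣ Fintype.card F - 1 := by
    rw [← hx]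
    exact orderOf_dvd_of_pow_eq_one (Subtype.ext (by rw [Subgroup.coe_pow, hpow]; rfl))
  obtain ⟨m, -, hm⟩ := FiniteField.card F p
  have h2 : p ∣ Fintype.card F := by rw [hm]; exact dvd_pow_self p (by simp)
  have h3 : p ∣ 1 := by
    have := Nat.dvd_sub h2 h1
    rwa [Nat.sub_sub_self Fintype.card_pos] at this
  exact hp.out.one_lt.ne' (Nat.dvd_one.mp h3)

end CfsgLib.KnownB.Steinberg
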